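import Cfsg.Agent.H573.Spor.ConwayFive
import Cfsg.Agent.LThreeCo1T8.Main
import Cfsg.Agent.CpAutBig.CoZero
import Cfsg.Agent.FastGrp
import Cfsg.Agent.Prune
set_option linter.all false
prune_inst 0x7f00000000000000000000000000000000000000000000000000000000000000000000000000000000000000000000000000000000000000000000000000000000000000000000000000000000000000003fffffffffffffffffffffffffffbeffbdffffffff
open scoped Cfsg.Agent.FastGrp

/-!
# `Co1` and `Co3` are not `PCent` for `p = 3` (helper573)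

The centralizer in `Co1` of the element `x8` of type `3^8` is `3 × A₉`; `x8` fixes a vector of type 3.
-/

set_option autoImplicit false
set_option maxRecDepth 100000

namespace Cfsg.Agent.H573.Spor.CoThree

open Subgroup Cfsg Cfsg.Agent.SporadicA Cfsg.Agent.SporadicStructure.Co0Matrix Cfsg.Agent.CoOneType.CoEval
open Cfsg.Agent.SporadicA.Co0Mono Cfsg.Agent.SporadicA.Co1Simple
open Cfsg.Agent.LThreeCo1T8.Mono Cfsg.Agent.LThreeCo1T8.Fixed Cfsg.Agent.LThreeCo1T8.Mat Cfsg.Agent.LThreeCo1T8.Main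
open Cfsg.Agent.H573.Spor.Co0

theorem dvd_cent : 181440 ∣ Nat.card (centralizer ({xx} : Set Spor.Co1)) :=
  card_AA ▸ Subgroup.card_dvd_of_le AA_le

theorem not_dvd_cent : ¬ 3 ^ 6 ∣ Nat.card (centralizer ({xx} : Set Spor.Co1)) := by
  intro h
  have h1 := dvd_cent
  have h2 := card_cent
  have h3 : 0 < Nat.card (centralizer ({xx} : Set Spor.Co1)) := Nat.card_pos
  obtain ⟨a, ha⟩ := h
  obtain ⟨b, hb⟩ := h1
  omega

theorem card_Co1 : Nat.card Spor.Co1 = 4157776806543360000 := Cfsg.Agent.S0399.result.2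

theorem co1 : ¬ PCent 3 Spor.Co1 := by
  have : Fact (Nat.Prime 3) := ⟨Nat.prime_three⟩
  exact not_pcent_of_not_dvd (x := xx) (k := 1) (n := 6) (by rw [order_x, pow_one]) (by rw [card_Co1]; norm_num)
    not_dvd_cent

def lW : List ℤ := [-3, -3, 1, 1, 1, 1, 1, 1, 1, 1, 1, 1, 1, 1, 1, 1, 1, 1, 1, 1, 1, 1, 1, -3]

def w : leechLattice := ⟨vec lW, vec_mem_of_leechB (by decide +kernel)⟩

theorem sq_w : sqNorm (w : GolayPt → ℤ) = 48 := by
  show sqNorm (vec lW) = 48
  decide +kernel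

theorem sq_V : sqNorm (Spor.leechV : GolayPt → ℤ) = 48 := by
  rw [vV]
  decide +kernel

theorem x8_w : x8.1 w = w := by
  rw [← x_eq]
  exact stab_of_ap (rep_mk okX) (l := lW) (by decide) rfl (by decide +kernel)

theorem exists_conj : ∃ g : Co0, (g * x8 * g⁻¹).1 ∈ Spor.Co3 := by
  obtain ⟨g, hg⟩ := Cfsg.Agent.CpAutBig.CoZero.exists_smul_eq (n := 48) (Or.inr (Or.inl rfl)) w Spor.leechV sq_w sq_V
  refine ⟨g, (g * x8 * g⁻¹).2, MulAction.mem_stabilizer_iff.2 ?_⟩
  show (g * x8 * g⁻¹) • Spor.leechV = Spor.leechV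
  rw [← hg, mul_smul, mul_smul, inv_smul_smul]
  congr 1
  exact x8_w

theorem not_dvd_C : ¬ 3 ^ 6 ∣ Nat.card ↥C := by
  intro h
  have h1 : 181440 ∣ Nat.card ↥C := by
    refine dvd_cent.trans ?_
    have h2 : (C.map (Cfsg.Agent.CoOneType.CoOneE.pr)) = centralizer ({xx} : Set Spor.Co1) := by
      rw [← comap_eq, Subgroup.map_comap_eq_self_of_surjective Cfsg.Agent.CoOneType.CoOneE.pr_surjective]
    rw [← h2]
    exact Subgroup.card_dvd_of_surjective _ (MonoidHom.subgroupMap_surjective _ C)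
  have h2 := card_C
  have h3 : 0 < Nat.card ↥C := Nat.card_pos
  obtain ⟨a, ha⟩ := h
  obtain ⟨b, hb⟩ := h1
  omega

theorem card_centralizer_conj {G : Type*} [Group G] (g x : G) :
    Nat.card (centralizer ({g * x * g⁻¹} : Set G)) = Nat.card (centralizer ({x} : Set G)) := by
  have h : (centralizer ({x} : Set G)).map (MulAut.conj g).toMonoidHom = centralizer ({g * x * g⁻¹} : Set G) := by
    ext y
    constructor
    · rintro ⟨c, hc, rfl⟩
      rw [mem_centralizer_singleton_iff]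
      have h1 : c * x = x * c := mem_centralizer_singleton_iff.1 hc
      show g * c * g⁻¹ * (g * x * g⁻¹) = g * x * g⁻¹ * (g * c * g⁻¹)
      calc g * c * g⁻¹ * (g * x * g⁻¹) = g * (c * x) * g⁻¹ := by group
        _ = g * (x * c) * g⁻¹ := by rw [h1]
        _ = g * x * g⁻¹ * (g * c * g⁻¹) := by group
    · intro hy
      have h1 := mem_centralizer_singleton_iff.1 hy
      refine ⟨g⁻¹ * y * g, mem_centralizer_singleton_iff.2 ?_, ?_⟩
      · calc g⁻¹ * y * g * x = g⁻¹ * (y * (g * x * g⁻¹)) * g := by group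
          _ = g⁻¹ * (g * x * g⁻¹ * y) * g := by rw [h1]
          _ = x * (g⁻¹ * y * g) := by group
      · show g * (g⁻¹ * y * g) * g⁻¹ = y
        group
  rw [← h, card_map_of_injective (MulAut.conj g).injective]

theorem co3 : ¬ PCent 3 Spor.Co3 := by
  have : Fact (Nat.Prime 3) := ⟨Nat.prime_three⟩
  obtain ⟨g, hg⟩ := exists_conj
  intro hc
  have ho : orderOf (g * x8 * g⁻¹) = 3 := by
    have h1 : orderOf (g * x8 * g⁻¹) = orderOf x8 := MulEquiv.orderOf_eq (MulAut.conj g) x8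
    rw [h1]
    refine orderOf_eq_prime x8_cube fun h => x_ne ?_
    rw [xx, h, map_one]
  have ho2 : orderOf (⟨(g * x8 * g⁻¹).1, hg⟩ : Spor.Co3) = 3 := by
    rw [Subgroup.orderOf_mk]
    rw [← Subgroup.orderOf_coe] at ho
    exact ho
  have h1 := hc.dvd ⟨1, by rw [ho2, pow_one]⟩ (n := 6) (by rw [card_Co3]; norm_num)
  apply not_dvd_C
  have h2 : Nat.card ↥C = Nat.card (centralizer ({g * x8 * g⁻¹} : Set Co0)) := (card_centralizer_conj g x8).symm
  rw [h2]
  refine h1.trans ?_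
  have hle : Spor.Co3 ≤ Co0 := fun _ h => h.1
  let f : centralizer ({(⟨(g * x8 * g⁻¹).1, hg⟩ : Spor.Co3)} : Set Spor.Co3) →* Co0 :=
    (Subgroup.inclusion hle).comp (Subgroup.subtype _)
  have hf : Function.Injective f := (Subgroup.inclusion_injective hle).comp (Subgroup.subtype_injective _)
  have hr : f.range ≤ centralizer ({g * x8 * g⁻¹} : Set Co0) := by
    rintro _ ⟨y, rfl⟩
    rw [mem_centralizer_singleton_iff]
    have hy := mem_centralizer_singleton_iff.1 y.2
    have h3 := congrArg Subtype.val hy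
    exact Subtype.ext h3
  rw [Nat.card_congr (MonoidHom.ofInjective hf).toEquiv]
  exact Subgroup.card_dvd_of_le hr

end Cfsg.Agent.H573.Spor.CoThree

namespace Cfsg.Agent.H573.Spor

theorem co1_3 {G : Type*} [Group G] (h : Cfsg.Spor.IsoCo1 G) : ¬ PCent 3 G :=
  of_iso (by norm_num) (by rw [CoThree.card_Co1]; norm_num) CoThree.co1 h

theorem co3_3 {G : Type*} [Group G] (h : Cfsg.Spor.IsoCo3 G) : ¬ PCent 3 G :=
  of_iso (by norm_num) (by rw [card_Co3]; norm_num) CoThree.co3 h

end Cfsg.Agent.H573.Spor
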