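import Cfsg.Agent.H573.Spor.Lift
import Cfsg.Agent.BpMon.Thirteen
import Cfsg.Agent.H546.MElevenB_m3
import Cfsg.Agent.MThirteen.FiveRow
import Cfsg.Agent.CpAutJ4.Row
import Cfsg.Agent.FastGrp
import Cfsg.Agent.Prune
set_option linter.all false

-- part: H573/Spor/MThirteen
section
set_option linter.all false
open scoped Cfsg.Agent.FastGrp

/-!
# `PCent 13` for the Monster implies abelian Sylow 13-subgroups (helper573)

An element of order 13 commuting with a `2B`-involution is not conjugate to an element commuting with a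
`2A`-involution.
-/

set_option autoImplicit false
set_option maxRecDepth 100000

namespace Cfsg.Agent.H573

open Subgroup

/-- an involution which is the only involution of its centralizer: one class of involutions -/
theorem conj_of_only {H : Type*} [Group H] [Finite H] {z : H} (hz : orderOf z = 2)
    (hu : ∀ s : H, s * s = 1 → s * z = z * s → s = 1 ∨ s = z) {t : H} (ht : orderOf t = 2) :
    ∃ g : H, g * t * g⁻¹ = z := by
  have : Fact (Nat.Prime 2) := ⟨Nat.prime_two⟩
  have hpz : ∀ {a : H}, orderOf a = 2 → IsPGroup 2 (zpowers a) := fun {a} ha =>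
    IsPGroup.of_card (n := 1) (by rw [Nat.card_zpowers, ha, pow_one])
  obtain ⟨S, hS⟩ := (hpz hz).exists_le_sylow
  have hzS : z ∈ S := hS (mem_zpowers z)
  have hSp : IsPGroup 2 (S : Subgroup H) := S.2
  -- an involution `w` of the centre of `S`
  have hnt : Nontrivial (S : Subgroup H) := ⟨⟨⟨z, hzS⟩, 1, fun h => by
    have h1 : z = 1 := congrArg Subtype.val h
    rw [h1, orderOf_one] at hz
    omega⟩⟩
  have hc : Nontrivial (center (S : Subgroup H)) := hSp.center_nontrivial
  have hcp : IsPGroup 2 (center (S : Subgroup H)) := hSp.to_subgroup _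
  have h2 : 2 ∣ Nat.card (center (S : Subgroup H)) := by
    obtain ⟨n, hn⟩ := hcp.exists_card_eq
    rw [← Finite.one_lt_card_iff_nontrivial, hn] at hc
    rw [hn]
    exact dvd_pow_self 2 (by rintro rfl; simp at hc)
  obtain ⟨w, hw⟩ := exists_prime_orderOf_dvd_card' (G := center (S : Subgroup H)) 2 h2
  have hw2 : orderOf (((w : (S : Subgroup H))) : H) = 2 := by rw [Subgroup.orderOf_coe, Subgroup.orderOf_coe, hw]
  have hwc : ∀ y ∈ S, y * ((w : (S : Subgroup H)) : H) = ((w : (S : Subgroup H)) : H) * y := fun y hy =>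
    congrArg Subtype.val (mem_center_iff.1 w.2 ⟨y, hy⟩)
  have hwz : ((w : (S : Subgroup H)) : H) = z := by
    refine (hu _ ?_ (hwc z hzS).symm).resolve_left ?_
    · have h5 := pow_orderOf_eq_one (((w : (S : Subgroup H))) : H)
      rw [hw2, pow_two] at h5
      exact h5
    · intro h
      rw [h, orderOf_one] at hw2
      omega
  obtain ⟨R, hR⟩ := (hpz ht).exists_le_sylow
  obtain ⟨g, hg⟩ := MulAction.exists_smul_eq H R S
  have hgt : g * t * g⁻¹ ∈ S := by
    rw [← hg]
    exact Subgroup.smul_mem_pointwise_smul t (MulAut.conj g) _ (hR (mem_zpowers t))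
  refine ⟨g, (hu _ ?_ ?_).resolve_left ?_⟩
  · have h3 : t * t = 1 := by
      have h5 := pow_orderOf_eq_one t
      rwa [ht, pow_two] at h5
    calc g * t * g⁻¹ * (g * t * g⁻¹) = g * (t * t) * g⁻¹ := by group
      _ = 1 := by rw [h3]; group
  · have h5 := hwc _ hgt
    rwa [hwz] at h5
  · intro h
    have h3 : t = 1 := by
      calc t = g⁻¹ * (g * t * g⁻¹) * g := by group
        _ = 1 := by rw [h]; group
    rw [h3, orderOf_one] at ht
    omega

/-- two subgroups of order `p` which are not conjugate: abelian Sylow subgroups -/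
theorem PCent.comm_of_sep {G : Type*} [Group G] [Finite G] {p : ℕ} [Fact p.Prime] (h : PCent p G)
    (h3 : p ^ 3 ∣ Nat.card G) (h4 : ¬ p ^ (3 + 1) ∣ Nat.card G) {x y : G} (hx : orderOf x = p) (hy : orderOf y = p)
    (hn : ∀ (g : G) (k : ℕ), g * x * g⁻¹ ≠ y ^ k) (P : Sylow p G) : IsMulCommutative (P : Subgroup G) := by
  by_contra hna
  obtain ⟨g, k, hg⟩ := h.conj_cube P (card_sylow_of P h3 h4) hna hx hy
  exact hn g k hg

namespace Spor.Monster

open Cfsg
open Cfsg.Agent.LThreeMB (fr XX KChart.Cent KChart.pi KChart.chart)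
open Cfsg.Agent.MonsterX Cfsg.Agent.MonsterX.Model Cfsg.Agent.MonsterX.MainSimple Cfsg.Agent.MonsterX.MainPack
open Cfsg.Agent.MonsterX.MainBasic Cfsg.Agent.MonsterU
open Cfsg.Agent.BpSpor.MBigModel

/-- an element of order 13 commuting with the involution `t` of the class `2A` is not conjugate to an element of
`C(z)` -/
theorem not_conj_thirteen {x₀ : centralizer ({zz} : Set MG)} (h0 : orderOf x₀ = 13) {x₁ t : MG}
    (h1 : orderOf x₁ = 13) (ht : LThreeB.Row.TA t) (ht2 : orderOf t = 2) (hc : x₁ * t = t * x₁) (g : MG) (k : ℕ) :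
    g * x₁ * g⁻¹ ≠ (x₀ : MG) ^ k := by
  intro hg
  have := finite
  have h13 : Fact (Nat.Prime 13) := ⟨by norm_num⟩
  have h0' : orderOf (x₀ : MG) = 13 := by rw [Subgroup.orderOf_coe, h0]
  have hk : orderOf ((x₀ : MG) ^ k) = 13 := by
    rw [← hg, ← h1]
    exact MulEquiv.orderOf_eq (MulAut.conj g) x₁
  have hz : zpowers ((x₀ : MG) ^ k) = zpowers (x₀ : MG) := by
    apply Subgroup.eq_of_le_of_card_ge
    · rw [zpowers_le]; exact pow_mem (mem_zpowers _) k
    · rw [Nat.card_zpowers, Nat.card_zpowers, hk, h0']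
  have hm : (x₀ : MG) ∈ zpowers ((x₀ : MG) ^ k) := by rw [hz]; exact mem_zpowers _
  obtain ⟨m, hm⟩ := mem_zpowers_iff.1 hm
  have hct : Commute (g * t * g⁻¹) ((x₀ : MG) ^ k) := by
    rw [← hg]
    show g * t * g⁻¹ * (g * x₁ * g⁻¹) = g * x₁ * g⁻¹ * (g * t * g⁻¹)
    calc g * t * g⁻¹ * (g * x₁ * g⁻¹) = g * (t * x₁) * g⁻¹ := by group
      _ = g * (x₁ * t) * g⁻¹ := by rw [hc]
      _ = g * x₁ * g⁻¹ * (g * t * g⁻¹) := by group
  have hct' : g * t * g⁻¹ * (x₀ : MG) = x₀ * (g * t * g⁻¹) := by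
    have := hct.zpow_right m
    rw [hm] at this
    exact this
  have ho : orderOf (g * t * g⁻¹) = 2 := by
    rw [← ht2]
    exact MulEquiv.orderOf_eq (MulAut.conj g) t
  have hzx : (zz : MG) * x₀ = x₀ * zz := (mem_centralizer_singleton_iff.1 x₀.2).symm
  obtain ⟨c, hc⟩ := conj_of_only (H := ↥(centralizer ({(x₀ : MG)} : Set MG)))
    (z := ⟨zz, mem_centralizer_singleton_iff.2 hzx⟩) (t := ⟨g * t * g⁻¹, mem_centralizer_singleton_iff.2 hct'⟩)
    (by rw [Subgroup.orderOf_mk]; exact orderOf_zz)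
    (Cfsg.Agent.BpMon.Thirteen.only_zD KDone.lft LThreeB.Row.cent h0)
    (by rw [Subgroup.orderOf_mk]; exact ho)
  have hc' : (c : MG) * (g * t * g⁻¹) * (c : MG)⁻¹ = zz := congrArg Subtype.val hc
  have e : (c : MG) * g * t * ((c : MG) * g)⁻¹ = (c : MG) * (g * t * g⁻¹) * (c : MG)⁻¹ := by group
  exact Cfsg.Agent.MThirteen.Row.ta_ne ht ((c : MG) * g) (e.trans hc')

theorem thirteen (h : PCent 13 MG) (P : Sylow 13 MG) : IsMulCommutative (P : Subgroup MG) := by
  have h13 : Fact (Nat.Prime 13) := ⟨by norm_num⟩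
  have := finite
  have hdz : 13 ∣ Nat.card ↥(centralizer ({zz} : Set MG)) := by
    rw [card_cent_z]; norm_num
  obtain ⟨x₀, hx₀⟩ := exists_prime_orderOf_dvd_card' (G := ↥(centralizer ({zz} : Set MG))) 13 hdz
  have ht : LThreeB.Row.TA (tG MonsterN.LitFin.all.hG MonsterN.LitFin.all.hR) := IsConj.refl _
  have hdt := card_cent_t ht
  have hdt' : 13 ∣ Nat.card ↥(centralizer ({tG MonsterN.LitFin.all.hG MonsterN.LitFin.all.hR} : Set MG)) := by
    rw [hdt]; norm_num
  obtain ⟨x₁, hx₁⟩ := exists_prime_orderOf_dvd_card'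
    (G := ↥(centralizer ({tG MonsterN.LitFin.all.hG MonsterN.LitFin.all.hR} : Set MG))) 13 hdt'
  refine h.comm_of_sep (by rw [card_M]; norm_num) (by rw [card_M]; norm_num) (x := (x₁ : MG)) (y := (x₀ : MG))
    (by rw [Subgroup.orderOf_coe, hx₁]) (by rw [Subgroup.orderOf_coe, hx₀]) ?_ P
  exact fun g k => not_conj_thirteen hx₀ (by rw [Subgroup.orderOf_coe, hx₁]) ht
    (Cfsg.Agent.MThirteen.Row.ta_order ht) (mem_centralizer_singleton_iff.1 x₁.2) g k

end Spor.Monster

/-- transport of the rows -/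
theorem Spor.comm_of_iso {p : ℕ} (hp : p.Prime) {X : Type*} [Group X] (hX : Nat.card X ≠ 0)
    (h : PCent p X → ∀ P : Sylow p X, IsMulCommutative (P : Subgroup X)) {G : Type*} [Group G]
    (hG : Nonempty (G ≃* X)) (hc : PCent p G) (P : Sylow p G) : IsMulCommutative (P : Subgroup G) := by
  obtain ⟨e⟩ := hG
  have : Fact p.Prime := ⟨hp⟩
  have : Finite X := Nat.finite_of_card_ne_zero hX
  have : Finite G := Finite.of_equiv _ e.symm.toEquiv
  have h1 := h (hc.congr e) (P.mapSurjective (f := e.toMonoidHom) e.surjective)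
  refine ⟨⟨fun a b => Subtype.ext (e.injective ?_)⟩⟩
  have h2 := h1.is_comm.comm ⟨e a, ⟨a, a.2, rfl⟩⟩ ⟨e b, ⟨b, b.2, rfl⟩⟩
  have h3 : e a * e b = e b * e a := congrArg Subtype.val h2
  show e ((a : G) * b) = e ((b : G) * a)
  rw [map_mul, map_mul, h3]

theorem Spor.m_13 {G : Type*} [Group G] (h : Cfsg.Spor.IsoM G) (hc : PCent 13 G) (P : Sylow 13 G) :
    IsMulCommutative (P : Subgroup G) := by
  obtain ⟨e⟩ := h
  exact Spor.comm_of_iso (by norm_num) (by rw [Spor.Monster.card_model]; norm_num) Spor.Monster.thirteen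
    ⟨e.trans Cfsg.Agent.MonsterP.Equiv.equiv.some⟩ hc P

end Cfsg.Agent.H573
end

-- part: H573/Spor/JFour
section
set_option linter.all false
open scoped Cfsg.Agent.FastGrp

/-!
# `PCent 11` for `J₄` implies abelian Sylow 11-subgroups (helper573)

An element of order 11 commuting with a 2-central involution is not conjugate to an element commuting with an
involution of the other class.
-/

set_option autoImplicit false
set_option maxRecDepth 100000

namespace Cfsg.Agent.H573.Spor.JFour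

open Subgroup Cfsg Cfsg.Agent.J4Type Cfsg.Agent.CpAutJ4
open scoped Pointwise
open Cfsg.Agent.SporadicStructure.M22Syl11 (f11 f11_mem f11_none f11_some orderOf_f11 f11_pow_eleven f11_ne_one)

section

variable {G : Type*} [Group G] [Finite G]

/-- `z` is the only involution of `C(x) ∩ C(z)`, `x` of order 11 -/
theorem only_z (C : Cent G) {x : G} (hx : orderOf x = 11) (hxz : x * C.z = C.z * x) {t : G} (htt : t * t = 1)
    (htz : t * C.z = C.z * t) (htx : t * x = x * t) : t = 1 ∨ t = C.z := by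
  have hxC : x ∈ centralizer ({C.z} : Set G) := mem_centralizer_singleton_iff.2 hxz
  have hzz : C.z * C.z = 1 := KFacts.J4.Easy.zz C
  have hz1 : C.z ≠ 1 := KFacts.J4.Easy.z1 C
  have hx11 : x ^ 11 = 1 := by rw [← hx, pow_orderOf_eq_one]
  have hx1 : x ≠ 1 := by
    rintro rfl
    rw [orderOf_one] at hx
    exact absurd hx (by norm_num)
  let x' : ↥(centralizer ({C.z} : Set G)) := ⟨x, hxC⟩
  have hx' : orderOf x' = 11 := by rw [Subgroup.orderOf_mk, hx]
  have hP1 : C.P x' ≠ 1 := by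
    intro h
    obtain ⟨q, hq, i, hi⟩ := (C.P_ker x').1 h
    have hi' : x = q * C.ρ ^ i := hi
    obtain ⟨q', hq', h2⟩ := KFacts.J4.AutP.pow_eq (C := C) hq i 3
    have h3 : (C.ρ ^ i) ^ 3 = 1 := by
      rw [← pow_mul, mul_comm, pow_mul, KFacts.J4.AutP.rho_cube, one_pow]
    rw [h3, mul_one, ← hi'] at h2
    have h4 : x ^ 12 = 1 := by
      rw [show (12 : ℕ) = 3 * 4 from rfl, pow_mul, h2, KFacts.J4.AutP.Q_pow_four hq']
    rw [show (12 : ℕ) = 11 + 1 from rfl, pow_succ, hx11, one_mul] at h4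
    exact hx1 h4
  have hPx : orderOf (C.P x') = 11 := orderOf_map C.P hx' hP1
  have hPM : ∀ c, C.P c ∈ M24 := by
    intro c
    have h1 : C.P c ∈ C.P.range := ⟨c, rfl⟩
    rw [C.P_range] at h1
    exact h1.1
  have hPn : C.P x' none = none := by
    rcases KFacts.J4.Easy.P_cases C x' with h | h
    · exact h.1
    · exfalso
      have h1 : ∀ n : ℕ, ((C.P x') ^ (2 * n)) none = none := by
        intro n
        induction n with
        | zero => rfl
        | succ n ih =>
          rw [show 2 * (n + 1) = 2 * n + 1 + 1 by ring, pow_succ, pow_succ, Equiv.Perm.mul_apply,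
            Equiv.Perm.mul_apply, h.1, h.2, ih]
      have h2 : (C.P x') ^ (2 * 5 + 1) = 1 := by
        change (C.P x') ^ 11 = 1
        rw [← hPx, pow_orderOf_eq_one]
      have h3 : ((C.P x') ^ (2 * 5 + 1)) none = some 0 := by
        rw [pow_succ', Equiv.Perm.mul_apply, h1, h.1]
      rw [h2] at h3
      exact absurd h3 (by decide)
  have S : Sit C.Q x C.z C.ρ :=
    { x_order := hx
      z_ne := hz1
      zz := hzz
      zQ := C.z_mem_Q
      card := C.Q_card
      sq := C.Q_sq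
      comm := C.Q_comm
      cent := C.Q_cent
      xz := hxz
      xQ := C.Q_conj x hxz
      ρ3 := by
        have h := KFacts.J4.AutP.rho_cube C
        rwa [pow_succ, pow_two] at h
      ρz := C.ρ_comm
      ρQ := C.Q_conj C.ρ C.ρ_comm
      ρfix := C.ρ_fix
      xρ := C.P_inner x' hPn }
  have htQ : t ∈ C.Q := by
    have hcC : t ∈ centralizer ({C.z} : Set G) := mem_centralizer_singleton_iff.2 htz
    let c' : ↥(centralizer ({C.z} : Set G)) := ⟨t, hcC⟩
    have hn : t ^ 2 ^ 1 = 1 := by rw [pow_one, pow_two, htt]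
    have hc1 : c' ^ 2 ^ 1 = 1 := Subtype.ext hn
    have hcx' : c' * x' = x' * c' := Subtype.ext htx
    have h1 : C.P c' = 1 := Eleven.eq_one_of_pow (hPM x') hPx (hPM c') 1
      (by rw [← map_pow, hc1, map_one]) (by rw [← map_mul, hcx', map_mul])
    obtain ⟨q, hq, i, hi⟩ := (C.P_ker c').1 h1
    have hi' : t = q * C.ρ ^ i := hi
    rw [hi'] at hn
    rw [hi', KFacts.J4.AutP.mem_Q_of_two hq hn, mul_one]
    exact hq
  exact S.uniq htQ htx.symm htt

/-- an element of order 11 commuting with `z` -/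
theorem exists_x0 (C : Cent G) : ∃ x : G, orderOf x = 11 ∧ x * C.z = C.z * x := by
  have : Fact (Nat.Prime 11) := ⟨by norm_num⟩
  have h1 : f11 ∈ C.P.range := by
    rw [C.P_range]
    refine ⟨f11_mem, MulAction.mem_stabilizer_iff.2 ?_⟩
    decide
  have h2 : 11 ∣ Nat.card C.P.range := by
    have h3 := orderOf_dvd_natCard (⟨f11, h1⟩ : C.P.range)
    rwa [Subgroup.orderOf_mk, orderOf_f11] at h3
  have h3 : 11 ∣ Nat.card ↥(centralizer ({C.z} : Set G)) :=
    h2.trans (Subgroup.card_range_dvd C.P)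
  obtain ⟨x, hx⟩ := exists_prime_orderOf_dvd_card' 11 h3
  exact ⟨x, by rw [Subgroup.orderOf_coe, hx], mem_centralizer_singleton_iff.1 x.2⟩

/-- an element of order 11 commuting with a duad involution -/
theorem exists_x1 (C : J4Type.Compl G) : ∃ x : G, orderOf x = 11 ∧ x * C.ε {none, some 0} = C.ε {none, some 0} * x := by
  have : Fact (Nat.Prime 11) := ⟨by norm_num⟩
  let f : M24 := ⟨f11, f11_mem⟩
  refine ⟨C.φ f, ?_, ?_⟩
  · refine orderOf_eq_prime ?_ ?_
    · rw [← map_pow, show f ^ 11 = 1 from Subtype.ext f11_pow_eleven, map_one]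
    · intro h
      have h1 := C.π_φ f
      have h2 : (⟨C.φ f, C.φ_mem f⟩ : Subgroup.normalizer (C.E hex0 : Set G)) = 1 := Subtype.ext h
      rw [h2, map_one] at h1
      exact f11_ne_one (congrArg Subtype.val h1).symm
  · have h1 := C.π_smul ⟨C.φ f, C.φ_mem f⟩ {none, some 0} (by decide)
    rw [C.π_φ] at h1
    have h2 : ((f : M24) : Equiv.Perm GolayPt) • ({none, some 0} : Finset GolayPt) = {none, some 0} := by
      show f11 • ({none, some 0} : Finset GolayPt) = {none, some 0}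
      decide
    rw [h2] at h1
    have h3 : C.φ f * C.ε {none, some 0} * (C.φ f)⁻¹ = C.ε {none, some 0} := h1
    rw [mul_inv_eq_iff_eq_mul] at h3
    exact h3

end

theorem card_J4 : Nat.card Cfsg.Spor.J4 = 86775571046077562880 := Cfsg.Agent.S1703.result.2

theorem eleven (h : PCent 11 Cfsg.Spor.J4) (P : Sylow 11 Cfsg.Spor.J4) :
    IsMulCommutative (P : Subgroup Cfsg.Spor.J4) := by
  have : Fact (Nat.Prime 11) := ⟨by norm_num⟩
  have : Fact (Nat.Prime 2) := ⟨by norm_num⟩
  obtain ⟨hfin, -, ⟨F⟩⟩ := KFacts.J4.Base.exists_full (K := Cfsg.Spor.J4) ⟨MulEquiv.refl _⟩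
  obtain ⟨x₀, h0, hxz⟩ := exists_x0 F.C.toCent
  obtain ⟨x₁, h1, hxe⟩ := exists_x1 F.C
  have hd : (none : GolayPt) ≠ some 0 := by decide
  have hnc := F.C.duad_not_conj none (some 0) hd
  have he1 : F.C.ε {none, some 0} ≠ 1 := DuadUniq.duad_ne_one F.C.toFrame hd
  have hH := FusionConj.isHex_hex0
  have hee : F.C.ε {none, some 0} * F.C.ε {none, some 0} = 1 :=
    (F.C.E_elem hex0 hH).1 _ (F.C.ε_mem _ (by rw [Finset.card_pair hd]; decide))
  have heo : orderOf (F.C.ε {none, some 0}) = 2 := orderOf_eq_prime (by rw [pow_two, hee]) he1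
  refine h.comm_of_sep (by rw [card_J4]; norm_num) (by rw [card_J4]; norm_num) (x := x₁) (y := x₀) h1 h0 ?_ P
  intro g k hg
  generalize F.C.ε {none, some 0} = t at *
  have hk : orderOf (x₀ ^ k) = 11 := by
    rw [← hg, ← h1]
    exact MulEquiv.orderOf_eq (MulAut.conj g) x₁
  have hz : zpowers (x₀ ^ k) = zpowers x₀ := by
    apply Subgroup.eq_of_le_of_card_ge
    · rw [zpowers_le]; exact pow_mem (mem_zpowers _) k
    · rw [Nat.card_zpowers, Nat.card_zpowers, hk, h0]
  have hm : x₀ ∈ zpowers (x₀ ^ k) := by rw [hz]; exact mem_zpowers _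
  obtain ⟨m, hm⟩ := mem_zpowers_iff.1 hm
  have hct : Commute (g * t * g⁻¹) (x₀ ^ k) := by
    rw [← hg]
    show g * t * g⁻¹ * (g * x₁ * g⁻¹) = g * x₁ * g⁻¹ * (g * t * g⁻¹)
    calc g * t * g⁻¹ * (g * x₁ * g⁻¹) = g * (t * x₁) * g⁻¹ := by group
      _ = g * (x₁ * t) * g⁻¹ := by rw [hxe]
      _ = g * x₁ * g⁻¹ * (g * t * g⁻¹) := by group
  have hct' : g * t * g⁻¹ * x₀ = x₀ * (g * t * g⁻¹) := by
    have := hct.zpow_right m
    rw [hm] at this
    exact this
  have ho : orderOf (g * t * g⁻¹) = 2 := by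
    rw [← heo]
    exact MulEquiv.orderOf_eq (MulAut.conj g) t
  obtain ⟨c, hc⟩ := conj_of_only (H := ↥(centralizer ({x₀} : Set Cfsg.Spor.J4)))
    (z := ⟨F.C.z, mem_centralizer_singleton_iff.2 hxz.symm⟩)
    (t := ⟨g * t * g⁻¹, mem_centralizer_singleton_iff.2 hct'⟩)
    (by rw [Subgroup.orderOf_mk]; exact F.C.z_order)
    (fun s hs hsz => by
      have h5 := only_z F.C.toCent h0 hxz (t := (s : Cfsg.Spor.J4)) (congrArg Subtype.val hs)
        (congrArg Subtype.val hsz) (mem_centralizer_singleton_iff.1 s.2)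
      rcases h5 with h5 | h5
      · exact Or.inl (Subtype.ext h5)
      · exact Or.inr (Subtype.ext h5))
    (by rw [Subgroup.orderOf_mk]; exact ho)
  have hc' : (c : Cfsg.Spor.J4) * (g * t * g⁻¹) * (c : Cfsg.Spor.J4)⁻¹ = F.C.z := congrArg Subtype.val hc
  apply hnc
  refine (isConj_iff.2 ⟨(c : Cfsg.Spor.J4) * g, ?_⟩ : IsConj t F.C.z).symm
  have e : (c : Cfsg.Spor.J4) * g * t * ((c : Cfsg.Spor.J4) * g)⁻¹ =
      (c : Cfsg.Spor.J4) * (g * t * g⁻¹) * (c : Cfsg.Spor.J4)⁻¹ := by group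
  exact e.trans hc'

end Cfsg.Agent.H573.Spor.JFour

namespace Cfsg.Agent.H573.Spor

theorem j4_11 {G : Type*} [Group G] (h : Cfsg.Spor.IsoJ4 G) (hc : PCent 11 G) (P : Sylow 11 G) :
    IsMulCommutative (P : Subgroup G) :=
  comm_of_iso (by norm_num) (by rw [JFour.card_J4]; norm_num) JFour.eleven h hc P

end Cfsg.Agent.H573.Spor
end
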