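import Cfsg.Agent.H573.Spor.Lift
import Cfsg.Agent.LThreeMB.CoOneFin
import Cfsg.Agent.LThreeB.Asm
import Cfsg.Agent.S1700
import Cfsg.Agent.S1698
import Cfsg.Agent.SigZeroHN.Main
import Cfsg.Agent.BM.KHAll
import Cfsg.Agent.Schreier.McLaughlin
import Cfsg.Agent.MonsterN.Local_m3
import Cfsg.Agent.FastGrp
import Cfsg.Agent.Prune
set_option linter.all false

section
prune_inst 0x7f00000000000000000000000000000000000000000000000000000000000000000000000000000000000000000000000000000000000000000000000000000000000000000000000000000000000000003fffffffffffffffffffffffffffbeffbdffffffff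

-- part: H573/Spor/MThree
section
set_option linter.all false
open scoped Cfsg.Agent.FastGrp

/-!
# The Monster is not `PCent` for `p = 3` (helper573)

`C(x) / ⟨x⟩ ≅ Th` for an element `x` of order 3.
-/

set_option autoImplicit false
set_option maxRecDepth 100000

namespace Cfsg.Agent.H573.Spor

namespace Monster

open Subgroup Cfsg
open Cfsg.Agent.LThreeMB (fr XX KChart.Cent KChart.pi KChart.chart)
open Cfsg.Agent.MonsterX Cfsg.Agent.MonsterX.Model Cfsg.Agent.MonsterX.MainSimple Cfsg.Agent.MonsterX.MainPack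
open Cfsg.Agent.MonsterX.MainBasic Cfsg.Agent.MonsterU
open Cfsg.Spor (Co1)

theorem card_Th {G : Type*} [Group G] (h : Cfsg.Spor.IsoTh G) : Nat.card G = 90745943887872000 := by
  obtain ⟨e⟩ := h
  rw [Nat.card_congr e.toEquiv]
  exact Cfsg.Agent.S1700.result.2

theorem card_Fi24 {G : Type*} [Group G] (h : Cfsg.Spor.IsoFi24' G) : Nat.card G = 1255205709190661721292800 := by
  obtain ⟨e⟩ := h
  rw [Nat.card_congr e.toEquiv]
  exact Cfsg.Agent.S1698.result.2

/-- an element of order 3 with `C(x) / ⟨x⟩ ≅ Th` -/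
theorem exists_th : ∃ x : ↥InstData.M.G, orderOf x = 3 ∧ Cfsg.Spor.IsoTh (XX x) := by
  have := finite
  have := MFive.Row.simple_model
  obtain ⟨s, hs, hfs, -⟩ := Cfsg.Agent.LThreeMB.CoOneFin.coOne.nine
  obtain ⟨x, hx, hxs⟩ := exists_lift Nat.prime_three (by decide) hs
  exact ⟨x, by rw [Subgroup.orderOf_coe, hx], Cfsg.Agent.LThreeB.isoTh_of_inputs (KChart.chart KDone.lft MFive.Row.hc)
    Cfsg.Agent.LThreeMB.CoOneFin.coOne hx (by rw [hxs, hfs])⟩

theorem three : ¬ PCent 3 ↥InstData.M.G := by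
  have : Fact (Nat.Prime 3) := ⟨Nat.prime_three⟩
  have := finite
  obtain ⟨x, hx, h⟩ := exists_th
  refine not_pcent_of_not_dvd (x := x) (k := 1) (n := 12) (by rw [hx, pow_one]) (by rw [card_model]; norm_num) ?_
  rw [card_XX, card_Th h, hx]
  norm_num

end Monster

theorem m_3 {G : Type*} [Group G] (h : Cfsg.Spor.IsoM G) : ¬ PCent 3 G := by
  obtain ⟨e⟩ := h
  exact of_iso (by norm_num) (by rw [Monster.card_model]; norm_num) Monster.three
    ⟨e.trans Cfsg.Agent.MonsterP.Equiv.equiv.some⟩

end Cfsg.Agent.H573.Spor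
end

-- part: H573/Spor/BFive
section
set_option linter.all false
open scoped Cfsg.Agent.FastGrp

/-!
# `B` at `p = 5` (helper573)

In the Monster an involution `t = ι p`, `p` short, commutes with an element `x` of order 5 with `C(x) / ⟨x⟩ ≅ HN`: the order of
`C(x) ∩ C(t)` divides `5 |C_HN(t)|` and is not divisible by `5 ^ 6`. The group `C(t) / Z` is the Baby Monster.
-/

set_option autoImplicit false
set_option maxRecDepth 100000

namespace Cfsg.Agent.H573.Spor

open Subgroup Cfsg
open Cfsg.Agent.LThreeMB (fr XX Zx self KChart.Cent KChart.pi KChart.chart)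
open Cfsg.Agent.MonsterX Cfsg.Agent.MonsterX.Model Cfsg.Agent.MonsterX.MainSimple Cfsg.Agent.MonsterX.MainPack
open Cfsg.Agent.MonsterX.MainBasic Cfsg.Agent.MonsterU Cfsg.Agent.MonsterU.Lam2
open Cfsg.Agent.MonsterP Cfsg.Agent.MonsterN
open Cfsg.Agent.LThreeB (XT mem_XT centXT centXT')
open Cfsg.Spor (Co1)

/-! ### general facts -/

/-- the centralizer in the quotient by a normal subgroup of order 2 contained in the centre -/
theorem index_centralizer_mk {C : Type*} [Group C] {p : ℕ} (hp : Odd p)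
    (h2 : Nat.card (center C) = 2) {x : C} (hx : x ^ p = 1) :
    (centralizer ({x} : Set C)).index = (centralizer ({(QuotientGroup.mk x : C ⧸ center C)} : Set (C ⧸ center C))).index := by
  have h : centralizer ({x} : Set C) =
      (centralizer ({(QuotientGroup.mk x : C ⧸ center C)} : Set (C ⧸ center C))).comap (QuotientGroup.mk' (center C)) := by
    ext g
    rw [mem_comap, mem_centralizer_singleton_iff, mem_centralizer_singleton_iff]
    constructor
    · intro h
      show (QuotientGroup.mk g : C ⧸ center C) * QuotientGroup.mk x = QuotientGroup.mk x * QuotientGroup.mk g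
      rw [← QuotientGroup.mk_mul, ← QuotientGroup.mk_mul, h]
    · intro h
      have h' : (QuotientGroup.mk (x * g) : C ⧸ center C) = QuotientGroup.mk (g * x) := by
        rw [QuotientGroup.mk_mul, QuotientGroup.mk_mul]; exact h.symm
      have hz := QuotientGroup.eq.1 h'
      obtain ⟨z, hzz⟩ : ∃ z, z = (x * g)⁻¹ * (g * x) := ⟨_, rfl⟩
      rw [← hzz] at hz
      have e : g * x = x * z * g := by
        have h3 : g * x = x * g * z := by rw [hzz]; group
        rw [h3, mul_assoc, mem_center_iff.1 hz g, mul_assoc]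
      have hzo : z ^ 2 = 1 := by
        have h4 := orderOf_dvd_natCard (⟨z, hz⟩ : center C)
        rw [h2, Subgroup.orderOf_mk] at h4
        exact orderOf_dvd_iff_pow_eq_one.1 h4
      have hc : Commute x z := (mem_center_iff.1 hz x)
      have e2 : g * x * g⁻¹ = x * z := by rw [e, mul_inv_cancel_right]
      have e3 : (x * z) ^ p = 1 := by
        rw [← e2, conj_pow, hx, mul_one, mul_inv_cancel]
      rw [hc.mul_pow, hx, one_mul] at e3
      obtain ⟨m, hm⟩ := hp
      rw [hm, pow_succ, pow_mul, hzo, one_pow, one_mul] at e3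
      rw [e, e3, mul_one]
  rw [h]
  exact index_comap_of_surjective _ (QuotientGroup.mk'_surjective _)

/-- the order of a centralizer in `C(x)` -/
theorem card_dvd_XX {G : Type*} [Group G] [Finite G] {x : G} (t : ↥(centralizer ({x} : Set G))) :
    Nat.card ↥(centralizer ({t} : Set ↥(centralizer ({x} : Set G)))) ∣
      orderOf x * Nat.card ↥(centralizer ({(QuotientGroup.mk t : XX x)} : Set (XX x))) := by
  let N : Subgroup ↥(centralizer ({x} : Set G)) := Zx x
  let H := centralizer ({t} : Set ↥(centralizer ({x} : Set G)))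
  let f : ↥(centralizer ({x} : Set G)) →* XX x := QuotientGroup.mk' N
  have h1 : H.map f ≤ centralizer ({(QuotientGroup.mk t : XX x)} : Set (XX x)) := by
    rintro _ ⟨g, hg, rfl⟩
    rw [mem_centralizer_singleton_iff]
    have h2 := mem_centralizer_singleton_iff.1 hg
    show (QuotientGroup.mk g : XX x) * QuotientGroup.mk t = QuotientGroup.mk t * QuotientGroup.mk g
    exact congrArg (QuotientGroup.mk (s := Zx x)) h2
  have h4 : Nat.card H = Nat.card (N.subgroupOf H) * Nat.card (H.map f) := by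
    have h5 := Subgroup.card_eq_card_quotient_mul_card_subgroup (N.subgroupOf H)
    rw [h5, mul_comm]
    congr 1
    have e1 : N.subgroupOf H = (f.comp H.subtype).ker := by
      ext y
      rw [MonoidHom.mem_ker, mem_subgroupOf]
      exact (QuotientGroup.eq_one_iff (y : ↥(centralizer ({x} : Set G)))).symm
    have e2 : H.map f = (f.comp H.subtype).range := by
      rw [MonoidHom.range_comp, Subgroup.range_subtype]
    rw [e1, e2]
    exact Nat.card_congr (QuotientGroup.quotientKerEquivRange (f.comp H.subtype)).toEquiv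
  have h6 : Nat.card (N.subgroupOf H) ∣ orderOf x := by
    have h7 : Nat.card N = orderOf x := by
      show Nat.card (Zx x) = _
      rw [Zx, Nat.card_zpowers]
      exact Subgroup.orderOf_mk _ _
    rw [← h7]
    have h8 : Nat.card (N.subgroupOf H) = Nat.card ↥(N ⊓ H) := by
      rw [← Subgroup.subgroupOf_map_subtype]
      exact (Nat.card_congr ((N.subgroupOf H).equivMapOfInjective _ H.subtype_injective).toEquiv)
    rw [h8]
    exact card_dvd_of_le inf_le_left
  show Nat.card H ∣ _
  rw [h4]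
  exact mul_dvd_mul h6 (card_dvd_of_le h1)

namespace Monster

open Cfsg.Agent.MFive

/-- **the element `x` and the involution** -/
theorem exists_pair : ∃ (x : ↥InstData.M.G) (p : _), p ∈ KDone.K.Sh ∧ orderOf x = 5 ∧ Cfsg.Spor.IsoHN (XX x) ∧
    x * KDone.K.ι p = KDone.K.ι p * x := by
  have hch := KChart.chart KDone.lft MFive.Row.hc
  obtain ⟨x, hx, hs⟩ := exists_lift Nat.prime_five (by decide) order_A
  obtain ⟨p, hp⟩ := TwoCls.clP_surjective KDone.lft (cl Spor.leechU)
  have hsh : p ∈ KDone.K.Sh := (TwoCls.mem_Sh_iff KDone.lft p).2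
    ⟨Spor.leechU, by rw [Cfsg.Agent.Schreier.McLaughlin.norm_U]; norm_num, hp.symm⟩
  refine ⟨x, p, hsh, by rw [Subgroup.orderOf_coe, hx],
    CpAutBFive.Closed.hnEight x hx (by rw [hs]; exact McLFive.frA), ?_⟩
  refine (MFive.comm_iff_fix hch (p := 5) (by decide) (by rw [← hx, pow_orderOf_eq_one]) ⟨p, rfl⟩).2 ?_
  rw [hs, Cfsg.Agent.LThreeMB.KChart.eta_ι, hp, mk_smul, smul_cl]
  exact congrArg cl McLFive.memA.2

/-- the order of `C(x) ∩ C(t)` -/
theorem not_dvd_XT {x t : ↥InstData.M.G} (hx : orderOf x = 5) (h : Cfsg.Spor.IsoHN (XX x)) (ht : orderOf t = 2)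
    (hxt : x * t = t * x) : ¬ 5 ^ 5 ∣ Nat.card ↥(XT x t) := by
  have := finite
  intro hd
  obtain ⟨t', ht'⟩ : ∃ t' : ↥(centralizer ({x} : Set ↥InstData.M.G)), (t' : ↥InstData.M.G) = t :=
    ⟨⟨t, mem_centralizer_singleton_iff.2 hxt.symm⟩, rfl⟩
  have h1 : Nat.card ↥(XT x t) = Nat.card ↥(centralizer ({t'} : Set ↥(centralizer ({x} : Set ↥InstData.M.G)))) := by
    rw [Nat.card_congr (centXT' t').toEquiv, ht']
  have h2 := card_dvd_XX t'
  rw [hx] at h2
  have ho : orderOf (QuotientGroup.mk t' : XX x) = 2 := by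
    have : Fact (Nat.Prime 2) := ⟨Nat.prime_two⟩
    have ho' : orderOf t' = 2 := by rw [← Subgroup.orderOf_coe, ht', ht]
    refine orderOf_eq_prime ?_ ?_
    · have h3 : t' ^ 2 = 1 := by rw [← ho', pow_orderOf_eq_one]
      exact congrArg (QuotientGroup.mk (s := Zx x)) h3
    · intro h3
      have h4 : t' ∈ Zx x := (QuotientGroup.eq_one_iff t').1 h3
      have h5 : orderOf t' ∣ Nat.card (Zx x) := by
        have h6 := orderOf_dvd_natCard (⟨t', h4⟩ : Zx x)
        rwa [Subgroup.orderOf_mk] at h6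
      have h7 : Nat.card (Zx x) = 5 := by
        rw [Zx, Nat.card_zpowers, ← hx]
        exact Subgroup.orderOf_mk _ _
      rw [h7, ho'] at h5
      omega
  obtain ⟨e⟩ := h
  have ho2 : orderOf (e (QuotientGroup.mk t' : XX x)) = 2 := by rw [MulEquiv.orderOf_eq, ho]
  have h3 : Nat.card ↥(centralizer ({(QuotientGroup.mk t' : XX x)} : Set (XX x))) =
      Nat.card ↥(centralizer ({e (QuotientGroup.mk t' : XX x)} : Set Cfsg.Spor.HN)) := by
    refine Nat.card_congr ((Subgroup.equivMapOfInjective _ e.toMonoidHom e.injective).trans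
      (MulEquiv.subgroupCongr ?_)).toEquiv
    ext g
    rw [mem_map, mem_centralizer_singleton_iff]
    constructor
    · rintro ⟨c, hc, rfl⟩
      have := mem_centralizer_singleton_iff.1 hc
      show e c * e _ = e _ * e c
      rw [← map_mul, this, map_mul]
    · intro hg
      refine ⟨e.symm g, mem_centralizer_singleton_iff.2 (e.injective ?_), e.apply_symm_apply g⟩
      rw [map_mul, map_mul, e.apply_symm_apply, hg]
  rw [h3] at h2
  rw [h1] at hd
  have h4 := hd.trans h2
  rcases Cfsg.Agent.SigZeroHN.card_centralizer_cases ho2 with ⟨-, h5⟩ | ⟨-, h5⟩ <;> rw [h5] at h4 <;> norm_num at h4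

end Monster

theorem card_baby : Nat.card Cfsg.Spor.BabyMonster = 4154781481226426191177580544000000 :=
  Cfsg.Agent.BM.KHAll.card_B

theorem baby_five : ¬ PCent 5 Cfsg.Spor.BabyMonster := by
  have : Fact (Nat.Prime 5) := ⟨Nat.prime_five⟩
  have := Monster.finite
  have hfb : Finite Cfsg.Spor.BabyMonster := Nat.finite_of_card_ne_zero (by rw [card_baby]; norm_num)
  intro hP
  obtain ⟨x, p, hp, hx, hHN, hxt⟩ := Monster.exists_pair
  obtain ⟨⟨h2, -, ⟨e⟩⟩, -⟩ := ModelB.fieldsKS LitFin.all KDone.lnk KDone.lft (NodesGrp.prel LitFin.H)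
    (NodesNe.ne LitFin.H) LitFin.conj_ten Cfsg.Agent.S1704.result hp
  have ht : orderOf (KDone.K.ι p) = 2 := by
    have : Fact (Nat.Prime 2) := ⟨Nat.prime_two⟩
    refine orderOf_eq_prime ?_ ?_
    · rw [← map_pow, pow_two, KDone.lft.sh_sq p hp, map_one]
    · intro h1
      have h3 : p = 1 := InvTwo.ι_inj KDone.lft (h1.trans (map_one _).symm)
      have h4 := (TwoCls.mem_Sh_iff KDone.lft p).1 hp
      rw [h3, TwoCls.clP_one] at h4
      exact CloseLat.ne_zero_of_two h4 rfl
  generalize KDone.K.ι p = t at *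
  have hnd := Monster.not_dvd_XT hx hHN ht hxt
  obtain ⟨x', hx'⟩ : ∃ x' : ↥(centralizer ({t} : Set ↥InstData.M.G)), (x' : ↥InstData.M.G) = x :=
    ⟨⟨x, mem_centralizer_singleton_iff.2 hxt⟩, rfl⟩
  have hx5 : orderOf x' = 5 := by rw [← Subgroup.orderOf_coe, hx', hx]
  have hx1 : x' ^ 5 = 1 := by rw [← hx5, pow_orderOf_eq_one]
  have hQ : PCent 5 (↥(centralizer ({t} : Set ↥InstData.M.G)) ⧸ center ↥(centralizer ({t} : Set ↥InstData.M.G))) :=
    hP.congr e.symm
  have hxo : orderOf (QuotientGroup.mk x' : ↥(centralizer ({t} : Set ↥InstData.M.G)) ⧸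
      center ↥(centralizer ({t} : Set ↥InstData.M.G))) ∣ 5 ^ 1 := by
    rw [pow_one]
    exact orderOf_dvd_of_pow_eq_one (congrArg (QuotientGroup.mk (s := center ↥(centralizer ({t} : Set ↥InstData.M.G)))) hx1)
  obtain ⟨k, -, hk⟩ := (Nat.dvd_prime_pow Nat.prime_five).1 hxo
  have h3 := hQ (QuotientGroup.mk x') ⟨k, hk⟩
  rw [← index_centralizer_mk (p := 5) (by decide) h2 hx1] at h3
  have h4 : 5 ^ 6 ∣ Nat.card ↥(centralizer ({t} : Set ↥InstData.M.G)) := by
    rw [Subgroup.card_eq_card_quotient_mul_card_subgroup (center ↥(centralizer ({t} : Set ↥InstData.M.G))),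
      Nat.card_congr e.toEquiv, card_baby, h2]
    norm_num
  rw [← Subgroup.card_mul_index (centralizer ({x'} : Set ↥(centralizer ({t} : Set ↥InstData.M.G))))] at h4
  have h5 := (Nat.Coprime.dvd_of_dvd_mul_right
    (Nat.Coprime.pow_left 6 ((Nat.Prime.coprime_iff_not_dvd Nat.prime_five).2 h3)) h4)
  rw [← Nat.card_congr (centXT x').toEquiv, hx'] at h5
  exact hnd ((pow_dvd_pow 5 (by norm_num : 5 ≤ 6)).trans h5)

theorem b_5 {G : Type*} [Group G] (h : Cfsg.Spor.IsoB G) : ¬ PCent 5 G :=
  of_iso (by norm_num) (by rw [card_baby]; norm_num) baby_five h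

end Cfsg.Agent.H573.Spor
end
end
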