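import Cfsg.Agent.H573.Spor.HNThree
import Cfsg.Agent.HN.A12Group
import Cfsg.Agent.S1701
import Cfsg.Agent.Lib.PackCol
import Cfsg.Agent.Prune
set_option linter.all false
prune_inst 0x7f00000000000000000000000000000000000000000000000000000000000000000000000000000000000000000000000000000000000000000000000000000000000000000000000000000000000000003fffffffffffffffffffffffffffbeffbdffffffff
open scoped Cfsg.Agent.FastGrp

/-!
# `HN` at `p = 5` (helper573)

Two elements `y`, `g` of `5`-power order with `g y = y ^ 11 g`, `y ^ 11 ≠ y`, checked in the 133-dimensional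
representation over the field with 31 elements.
-/

set_option autoImplicit false
set_option maxRecDepth 100000

namespace Cfsg.Agent.H573.Spor.HNFive

open Cfsg.Agent.Lib.PackMat Cfsg.Agent.Lib.PackMatGroup Cfsg.Agent.Lib.PackMatMul Cfsg.Agent.HN.RepData
open Cfsg.Agent.HN.Rep (L LG gens rho)
open Cfsg.Agent.HN

/-- the straight line program -/
def prog : List (ℕ × List ℕ) := [
  (2, [2, 4, 3, 4, 7, 4, 2, 4, 3, 3, 0, 2, 1, 2, 2, 7, 4, 3, 4, 3, 6, 6, 4, 3, 4, 2, 2, 2, 7, 0, 3, 4]),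
  (5, [3, 5, 3, 3, 5, 3, 3, 5, 4, 4, 5, 8, 5, 2, 3, 1, 5, 3, 1, 3, 5, 3]),
  (0, [0, 2, 4, 4, 4, 3, 4, 4, 6, 5, 5, 6, 4, 4, 9, 2, 4, 4, 6, 5, 2, 4, 6, 4, 6, 5, 5, 9, 6, 5, 8]),
  (2, [2]),
  (0, [0, 3]),
  (0, [0]),
  (0, [5]),
  (1, [1, 2]),
  (0, [7]),
  (6, [8]),
  (3, [7]),
  (8, [8]),
  (0, [0, 9]),
  (0, [0]),
  (0, [0, 1]),
  (0, [12])]

set_option Elab.async false in
theorem chk : checkS C prog [(0, 13), (5, 6), (7, 15)] [(9, 15)] L = true := by (rewrite [show @Cfsg.Agent.Lib.PackMatMul.checkS = delta% @Cfsg.Agent.Lib.PackMatMul.checkS from by delta Cfsg.Agent.Lib.PackMatMul.checkS; rfl, Cfsg.Agent.Lib.PackCol.withM_col]; decide +kernel)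

theorem sound : (∀ q ∈ [(0, 13), (5, 6), (7, 15)], (runG prog LG).getD q.1 1 = (runG prog LG).getD q.2 1) ∧
    (∀ q ∈ [(9, 15)], (runG prog LG).getD q.1 1 ≠ (runG prog LG).getD q.2 1) :=
  checkS_sound (good_of_check Rep.good) A12Group.codesR chk (by decide)

/-- the results in the presented group -/
noncomputable def R (i : ℕ) : Cfsg.Spor.HN := (runG prog gens).getD i 1

theorem rho_R (i : ℕ) : rho (R i) = (runG prog LG).getD i 1 := by
  unfold R
  rw [← Rep.gens_map, runG_map, List.getD_eq_getElem?_getD, List.getD_eq_getElem?_getD, List.getElem?_map]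
  cases (runG prog gens)[i]? with
  | none => simp
  | some b => simp

theorem R12 : R 12 = R 15 * (R 15 * 1) := rfl
theorem R11 : R 11 = R 12 * (R 12 * (R 15 * 1)) := rfl
theorem R10 : R 10 = R 11 * (R 11 * 1) := rfl
theorem R9 : R 9 = R 10 * (R 15 * 1) := rfl
theorem R8 : R 8 = R 10 * (R 10 * (R 11 * 1)) := rfl
theorem R7 : R 7 = R 8 * (R 15 * 1) := rfl
theorem R6 : R 6 = R 13 * (R 15 * 1) := rfl
theorem R5 : R 5 = R 9 * (R 13 * 1) := rfl
theorem R4 : R 4 = R 13 * (R 13 * 1) := rfl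
theorem R3 : R 3 = R 4 * (R 4 * (R 13 * 1)) := rfl
theorem R2 : R 2 = R 3 * (R 3 * 1) := rfl
theorem R1 : R 1 = R 2 * (R 2 * (R 3 * 1)) := rfl
theorem R0 : R 0 = R 1 * (R 13 * 1) := rfl

theorem eqs [IsSimpleGroup Cfsg.Spor.HN] : R 0 = R 13 ∧ R 5 = R 6 ∧ R 7 = R 15 ∧ R 9 ≠ R 15 := by
  obtain ⟨h1, h2⟩ := sound
  have hinj := A12Group.rho_injective
  refine ⟨hinj ?_, hinj ?_, hinj ?_, fun h => h2 (9, 15) (by simp) ?_⟩
  · rw [rho_R, rho_R]; exact h1 (0, 13) (by simp)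
  · rw [rho_R, rho_R]; exact h1 (5, 6) (by simp)
  · rw [rho_R, rho_R]; exact h1 (7, 15) (by simp)
  · rw [← rho_R, ← rho_R, h]

/-- powers -/
theorem pows {G : Type*} [Group G] {y a b c d e f : G} (ha : a = y * (y * 1)) (hb : b = a * (a * (y * 1)))
    (hc : c = b * (b * 1)) (hd : d = c * (y * 1)) (he : e = c * (c * (b * 1))) (hf : f = e * (y * 1)) :
    d = y ^ 11 ∧ f = y ^ 5 ^ 2 * y := by
  have e1 : a = y ^ 2 := by rw [ha, mul_one, pow_two]
  have e2 : b = y ^ 5 := by rw [hb, mul_one, e1, ← pow_succ, ← pow_add]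
  have e3 : c = y ^ 10 := by rw [hc, mul_one, e2, ← pow_add]
  refine ⟨by rw [hd, mul_one, e3, ← pow_succ], ?_⟩
  rw [hf, mul_one, he, mul_one, e3, e2, ← pow_add, ← pow_add]
  norm_num

theorem normP : NormP 5 Cfsg.Spor.HN := by
  have := Cfsg.Agent.S1701.result.1
  obtain ⟨h1, h2, h3, h4⟩ := eqs
  obtain ⟨e9, e7⟩ := pows R12 R11 R10 R9 R8 R7
  refine ⟨R 15, R 13, ⟨2, ?_⟩, ⟨2, ?_⟩, ?_, ?_⟩
  · rw [e7] at h3
    exact mul_eq_right.1 h3
  · rw [(pows (d := R 2 * (R 13 * 1)) R4 R3 R2 rfl R1 R0).2] at h1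
    exact mul_eq_right.1 h1
  · rw [Subgroup.mem_zpowers_iff]
    refine ⟨11, ?_⟩
    have h5 : R 15 ^ 11 * R 13 = R 13 * R 15 := by
      rw [← e9]
      rw [R5, R6, mul_one, mul_one] at h2
      exact h2
    rw [← h5, mul_inv_cancel_right]
    norm_cast
  · intro h5
    apply h4
    rw [R5, R6, mul_one, mul_one, h5] at h2
    exact mul_right_cancel h2

end Cfsg.Agent.H573.Spor.HNFive

theorem Cfsg.Agent.H573.Spor.hn_5 {G : Type*} [Group G] (h : Cfsg.Spor.IsoHN G) : ¬ Cfsg.Agent.H573.PCent 5 G := by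
  obtain ⟨e⟩ := h
  have : Finite Cfsg.Spor.HN := Nat.finite_of_card_ne_zero (by rw [Cfsg.Agent.KFacts.HN.Classes.card_HN]; norm_num)
  have : Finite G := Finite.of_equiv _ e.symm.toEquiv
  have h3 : Fact (Nat.Prime 5) := ⟨by norm_num⟩
  exact fun hc => Cfsg.Agent.H573.Spor.HNFive.normP.not_pcent (hc.congr e)
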