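import Cfsg.Agent.H573.PCent
import Mathlib
import Cfsg.Prelude.Def_Classical
import Cfsg.Agent.LieClassical.HermSiegel
import Cfsg.Agent.LieClassical.SUBasic
import Cfsg.Agent.FastGrp
import Cfsg.Agent.Prune
set_option linter.all false

section
prune_inst 0x7f00000000000000000000000000000000000000000000000000000000000000000000000000000000000000000000000000000000000000000000000000000000000000000000000000000000000000003fffffffffffffffffffffffffffbeffbdffffffff

-- part: H573/Spor/Base
section
set_option linter.all false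
open scoped Cfsg.Agent.FastGrp

/-!
# Tools for the sporadic rows: groups which are not `PCent` (helper573)

* `PCent.dvd` : `p ^ n ∣ |G|` gives `p ^ n ∣ |C(x)|` for all `p`-elements `x`;
* `not_pcent_of_not_dvd`, `not_pcent_of_lt` : an element with a small centralizer;
* `PCent.congr` : transport along an isomorphism;
* `PCent.conj_zpowers` : if some Sylow subgroup `P` has `|Z(P)| = p`, the subgroups of order `p` are conjugate;
* `PCent.conj_cube` : the same if `P` is nonabelian of order `p ^ 3`.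
-/

set_option autoImplicit false

namespace Cfsg.Agent.H573

open Subgroup MulAction

section
variable {G : Type*} [Group G] [Finite G] {p : ℕ} [Fact p.Prime]

omit [Finite G] in
theorem PCent.dvd (h : PCent p G) {x : G} (hx : ∃ k : ℕ, orderOf x = p ^ k) {n : ℕ} (hn : p ^ n ∣ Nat.card G) :
    p ^ n ∣ Nat.card (centralizer ({x} : Set G)) := by
  have h1 := h x hx
  have h2 := Subgroup.card_mul_index (centralizer ({x} : Set G))
  rw [← h2] at hn
  exact (Nat.Coprime.pow_left n ((Nat.Prime.coprime_iff_not_dvd Fact.out).2 h1)).dvd_of_dvd_mul_right hn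

theorem not_pcent_of_not_dvd {x : G} {k n : ℕ} (hx : orderOf x = p ^ k) (hn : p ^ n ∣ Nat.card G)
    (hd : ¬ p ^ n ∣ Nat.card (centralizer ({x} : Set G))) : ¬ PCent p G :=
  fun h => hd (h.dvd ⟨k, hx⟩ hn)

theorem not_pcent_of_lt {x : G} {k n : ℕ} (hx : orderOf x = p ^ k) (hn : p ^ n ∣ Nat.card G)
    (hd : Nat.card (centralizer ({x} : Set G)) < p ^ n) : ¬ PCent p G :=
  not_pcent_of_not_dvd hx hn fun h => absurd (Nat.le_of_dvd Nat.card_pos h) (not_le.2 hd)

theorem PCent.congr {H : Type*} [Group H] (e : G ≃* H) (hc : PCent p G) : PCent p H := by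
  have : Finite H := Finite.of_equiv G e.toEquiv
  refine PCent.of_sylow fun x hx => ?_
  obtain ⟨k, hk⟩ := hx
  obtain ⟨P, hP⟩ := hc.exists_sylow (x := e.symm x)
    ⟨k, by rw [← hk]; exact orderOf_injective e.symm.toMonoidHom e.symm.injective x⟩
  refine ⟨P.mapSurjective (f := e.toMonoidHom) e.surjective, ?_⟩
  rintro _ ⟨y, hy, rfl⟩
  have := congrArg e (hP y hy)
  simpa using this

/-- the centre of the Sylow subgroup `P` has order `p`: all subgroups of order `p` are conjugate -/
theorem PCent.conj_zpowers (h : PCent p G) (P : Sylow p G)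
    (hZ : Nat.card (center (P : Subgroup G)) = p) {x y : G} (hx : orderOf x = p) (hy : orderOf y = p) :
    ∃ g : G, ∃ k : ℕ, g * x * g⁻¹ = y ^ k := by
  have hp : p.Prime := Fact.out
  obtain ⟨g, hg, hgc⟩ := h.conj_center P (x := x) ⟨1, by rw [hx, pow_one]⟩
  obtain ⟨u, hu, huc⟩ := h.conj_center P (x := y) ⟨1, by rw [hy, pow_one]⟩
  have hcj : ∀ (g : G) (x : G), orderOf (g⁻¹ * x * g) = orderOf x := fun g x => by
    have := orderOf_injective (MulAut.conj g⁻¹).toMonoidHom (MulAut.conj g⁻¹).injective x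
    simpa [MulAut.conj_apply] using this
  have h1 : (⟨g⁻¹ * x * g, hg⟩ : (P : Subgroup G)) ∈ center (P : Subgroup G) := by
    rw [mem_center_iff]; intro z; exact Subtype.ext (hgc z z.2)
  have h2 : (⟨u⁻¹ * y * u, hu⟩ : (P : Subgroup G)) ∈ center (P : Subgroup G) := by
    rw [mem_center_iff]; intro z; exact Subtype.ext (huc z z.2)
  set a : center (P : Subgroup G) := ⟨_, h1⟩ with ha
  set b : center (P : Subgroup G) := ⟨_, h2⟩ with hb
  have hb1 : b ≠ 1 := by
    intro h3
    have h4 : u⁻¹ * y * u = 1 := congrArg (fun c : center (P : Subgroup G) => ((c : (P : Subgroup G)) : G)) h3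
    have h5 := hcj u y
    rw [h4, orderOf_one, hy] at h5
    exact hp.one_lt.ne h5
  have hpr : Fact (Nat.Prime (Nat.card (center (P : Subgroup G)))) := ⟨by rw [hZ]; exact hp⟩
  have hz : zpowers b = ⊤ := zpowers_eq_top_of_prime_card (p := Nat.card (center (P : Subgroup G))) rfl hb1
  have ham : a ∈ zpowers b := by rw [hz]; exact mem_top _
  obtain ⟨k, hk⟩ := (mem_powers_iff_mem_zpowers.2 ham)
  refine ⟨u * g⁻¹, k, ?_⟩
  have h3 : (u⁻¹ * y * u) ^ k = g⁻¹ * x * g := by
    have := congrArg (fun c : center (P : Subgroup G) => ((c : (P : Subgroup G)) : G)) hk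
    simpa [ha, hb] using this
  have h4 : y ^ k = u * (u⁻¹ * y * u) ^ k * u⁻¹ := by
    rw [← conj_pow]; congr 1; group
  rw [h4, h3]; group

/-- the exponent of the `p`-elements is that of the centre of a Sylow subgroup -/
theorem PCent.pow_eq_one (h : PCent p G) (P : Sylow p G) {m : ℕ}
    (hZ : ∀ z ∈ P, (∀ y ∈ P, y * z = z * y) → z ^ m = 1) {x : G} (hx : ∃ k : ℕ, orderOf x = p ^ k) : x ^ m = 1 := by
  obtain ⟨g, hg, hgc⟩ := h.conj_center P hx
  have h1 := hZ _ hg hgc
  have h2 : (g⁻¹ * x * g) ^ m = g⁻¹ * x ^ m * g := by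
    have := conj_pow (i := m) (a := g⁻¹) (b := x)
    simpa using this
  rw [h2] at h1
  have h3 : x ^ m = g * (g⁻¹ * x ^ m * g) * g⁻¹ := by group
  rw [h3, h1]; group

/-- the centre of a nonabelian group of order `p ^ 3` -/
theorem card_center_cube {P : Type*} [Group P] [Finite P] (hP : Nat.card P = p ^ 3)
    (hna : ¬ ∀ a b : P, a * b = b * a) : Nat.card (center P) = p := by
  have hp : p.Prime := Fact.out
  have hpg : IsPGroup p P := IsPGroup.of_card hP
  have hnt : Nontrivial P := by
    rw [← Finite.one_lt_card_iff_nontrivial, hP]; exact Nat.one_lt_pow (by norm_num) hp.one_lt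
  have h1 : Nontrivial (center P) := hpg.center_nontrivial
  have h2 : Nat.card (center P) ∣ p ^ 3 := hP ▸ card_subgroup_dvd_card _
  obtain ⟨k, hk, hc⟩ := (Nat.dvd_prime_pow hp).1 h2
  rw [← Finite.one_lt_card_iff_nontrivial, hc] at h1
  have hk0 : k ≠ 0 := by rintro rfl; simp at h1
  by_contra hne
  have hk2 : 2 ≤ k := by
    by_contra hlt
    have : k = 1 := by omega
    rw [this, pow_one] at hc
    exact hne hc
  apply hna
  have hcyc : IsCyclic (P ⧸ center P) := by
    have h3 : Nat.card (P ⧸ center P) * p ^ k = p ^ 3 := by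
      rw [← hP, Subgroup.card_eq_card_quotient_mul_card_subgroup (center P), hc]
    have h4 : Nat.card (P ⧸ center P) = p ^ (3 - k) := by
      have h5 : p ^ (3 - k) * p ^ k = p ^ 3 := by rw [← pow_add]; congr 1; omega
      exact Nat.eq_of_mul_eq_mul_right (pow_pos hp.pos k) (h3.trans h5.symm)
    rcases (by omega : k = 2 ∨ k = 3) with rfl | rfl
    · exact isCyclic_of_prime_card (p := p) (by rw [h4]; norm_num)
    · have h5 : Nat.card (P ⧸ center P) = 1 := by rw [h4]; norm_num
      have : Subsingleton (P ⧸ center P) := (Nat.card_eq_one_iff_unique.1 h5).1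
      exact isCyclic_of_subsingleton
  exact fun a b => commutative_of_cyclic_center_quotient (QuotientGroup.mk' (center P)) (by simp) a b

theorem PCent.conj_cube (h : PCent p G) (P : Sylow p G) (hP : Nat.card (P : Subgroup G) = p ^ 3)
    (hna : ¬ IsMulCommutative (P : Subgroup G)) {x y : G} (hx : orderOf x = p) (hy : orderOf y = p) :
    ∃ g : G, ∃ k : ℕ, g * x * g⁻¹ = y ^ k :=
  h.conj_zpowers P (card_center_cube hP fun hc => hna ⟨⟨hc⟩⟩) hx hy

/-- noncommuting elements of a `p`-subgroup -/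
theorem not_comm_of_pgroup {Q : Subgroup G} (hQ : IsPGroup p Q) {a b : G} (ha : a ∈ Q) (hb : b ∈ Q) (hab : a * b ≠ b * a)
    (P : Sylow p G) : ¬ IsMulCommutative (P : Subgroup G) := by
  intro hc
  obtain ⟨R, hR⟩ := hQ.exists_le_sylow
  obtain ⟨g, rfl⟩ := exists_smul_eq G P R
  apply hab
  have hm : ∀ u ∈ Q, g⁻¹ * u * g ∈ P := by
    intro u hu
    have h1 := hR hu
    rw [Sylow.coe_subgroup_smul, Subgroup.mem_pointwise_smul_iff_inv_smul_mem] at h1
    have h2 : (MulAut.conj g)⁻¹ • u = g⁻¹ * u * g := by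
      rw [← map_inv, MulAut.smul_def, MulAut.conj_apply, inv_inv]
    rw [h2] at h1
    exact h1
  have h3 : g⁻¹ * a * g * (g⁻¹ * b * g) = g⁻¹ * b * g * (g⁻¹ * a * g) :=
    congrArg (fun c : (P : Subgroup G) => (c : G)) (hc.is_comm.comm ⟨_, hm a ha⟩ ⟨_, hm b hb⟩)
  have h4 : g * (g⁻¹ * a * g * (g⁻¹ * b * g)) * g⁻¹ = g * (g⁻¹ * b * g * (g⁻¹ * a * g)) * g⁻¹ := by rw [h3]
  have e1 : g * (g⁻¹ * a * g * (g⁻¹ * b * g)) * g⁻¹ = a * b := by group
  have e2 : g * (g⁻¹ * b * g * (g⁻¹ * a * g)) * g⁻¹ = b * a := by group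
  rw [e1, e2] at h4
  exact h4

theorem card_sylow_of (P : Sylow p G) {n : ℕ} (h1 : p ^ n ∣ Nat.card G) (h2 : ¬ p ^ (n + 1) ∣ Nat.card G) :
    Nat.card (P : Subgroup G) = p ^ n := by
  have hp : p.Prime := Fact.out
  rw [P.card_eq_multiplicity]
  congr 1
  have h0 : Nat.card G ≠ 0 := Nat.card_pos.ne'
  refine le_antisymm ?_ ((hp.pow_dvd_iff_le_factorization h0).1 h1)
  by_contra hlt
  exact h2 ((hp.pow_dvd_iff_le_factorization h0).2 (by omega))

omit [Finite G] [Fact p.Prime] in
theorem isPGroup_zpowers {a : G} {i : ℕ} (ha : a ^ p ^ i = 1) : IsPGroup p (zpowers a) := by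
  rintro ⟨x, hx⟩
  obtain ⟨m, rfl⟩ := mem_zpowers_iff.1 hx
  refine ⟨i, Subtype.ext ?_⟩
  change (a ^ m) ^ (p ^ i) = 1
  rw [← zpow_natCast, ← zpow_mul, mul_comm, zpow_mul, zpow_natCast, ha, one_zpow]

omit [Finite G] in
/-- a nonabelian `p`-subgroup of class two -/
theorem exists_pgroup_of_class_two {a b c : G} {i j k : ℕ} (ha : a ^ p ^ i = 1) (hb : b ^ p ^ j = 1) (hc : c ^ p ^ k = 1)
    (hac : a * c = c * a) (hbc : b * c = c * b) (hab : a * b = b * a * c) :
    ∃ Q : Subgroup G, IsPGroup p Q ∧ a ∈ Q ∧ b ∈ Q := by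
  have hpa : IsPGroup p (zpowers a) := isPGroup_zpowers ha
  have hpb : IsPGroup p (zpowers b) := isPGroup_zpowers hb
  have hpc : IsPGroup p (zpowers c) := isPGroup_zpowers hc
  have h1 : zpowers a ≤ normalizer (zpowers c : Set G) := by
    rw [zpowers_le]
    refine (centralizer_le_normalizer _) ?_
    rw [mem_centralizer_iff]
    rintro _ ⟨m, rfl⟩
    exact ((show Commute c a from hac.symm).zpow_left m).eq
  have hD : IsPGroup p ↥(zpowers a ⊔ zpowers c : Subgroup G) := hpa.to_sup_of_normal_right' hpc h1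
  have hconj : ∀ x ∈ (zpowers a ⊔ zpowers c : Subgroup G), b⁻¹ * x * b ∈ (zpowers a ⊔ zpowers c : Subgroup G) := by
    intro x hx
    have h2 : (zpowers a ⊔ zpowers c : Subgroup G) ≤ (zpowers a ⊔ zpowers c : Subgroup G).comap
        (MulAut.conj b⁻¹).toMonoidHom := by
      rw [sup_le_iff, zpowers_le, zpowers_le]
      constructor
      · change b⁻¹ * a * b⁻¹⁻¹ ∈ (zpowers a ⊔ zpowers c : Subgroup G)
        have h3 : b⁻¹ * a * b⁻¹⁻¹ = a * c := by
          rw [inv_inv, mul_assoc, hab]; group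
        rw [h3]
        exact mul_mem (mem_sup_left (mem_zpowers a)) (mem_sup_right (mem_zpowers c))
      · change b⁻¹ * c * b⁻¹⁻¹ ∈ (zpowers a ⊔ zpowers c : Subgroup G)
        have h3 : b⁻¹ * c * b⁻¹⁻¹ = c := by
          rw [inv_inv, mul_assoc, ← hbc]; group
        rw [h3]
        exact mem_sup_right (mem_zpowers c)
    have h4 := h2 hx
    have h5 : b⁻¹ * x * b⁻¹⁻¹ ∈ (zpowers a ⊔ zpowers c : Subgroup G) := h4
    rwa [inv_inv] at h5
  have hpow : ∀ n : ℕ, ∀ x ∈ (zpowers a ⊔ zpowers c : Subgroup G), (b ^ n)⁻¹ * x * b ^ n ∈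
      (zpowers a ⊔ zpowers c : Subgroup G) := by
    intro n
    induction n with
    | zero => intro x hx; simpa using hx
    | succ n ih =>
      intro x hx
      have h6 := hconj _ (ih x hx)
      have h7 : (b ^ (n + 1))⁻¹ * x * b ^ (n + 1) = b⁻¹ * ((b ^ n)⁻¹ * x * b ^ n) * b := by
        rw [pow_succ]; group
      rw [h7]; exact h6
  have h2 : zpowers b ≤ normalizer ((zpowers a ⊔ zpowers c : Subgroup G) : Set G) := by
    rw [zpowers_le, mem_set_normalizer_iff]
    intro x
    constructor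
    · intro hx
      have h6 := hpow (p ^ j - 1) x hx
      have h7 : b ^ (p ^ j - 1) = b⁻¹ := by
        rcases Nat.eq_zero_or_pos (p ^ j) with h0 | h0
        · exact absurd h0 (pow_ne_zero _ (Nat.Prime.ne_zero Fact.out))
        · have : b ^ (p ^ j - 1) * b = 1 := by rw [← pow_succ, Nat.sub_add_cancel h0, hb]
          exact eq_inv_of_mul_eq_one_left this
      rw [h7, inv_inv] at h6
      exact h6
    · intro hx
      have h6 := hconj _ hx
      have h7 : b⁻¹ * (b * x * b⁻¹) * b = x := by group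
      rwa [h7] at h6
  refine ⟨zpowers b ⊔ (zpowers a ⊔ zpowers c), hpb.to_sup_of_normal_right' hD h2, ?_, ?_⟩
  · exact mem_sup_right (mem_sup_left (mem_zpowers a))
  · exact mem_sup_left (mem_zpowers b)

/-- a certificate for nonabelian Sylow subgroups -/
theorem not_comm_of_class_two {a b c : G} {i j k : ℕ} (ha : a ^ p ^ i = 1) (hb : b ^ p ^ j = 1) (hc : c ^ p ^ k = 1)
    (hac : a * c = c * a) (hbc : b * c = c * b) (hab : a * b = b * a * c) (hne : a * b ≠ b * a) (P : Sylow p G) :
    ¬ IsMulCommutative (P : Subgroup G) := by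
  obtain ⟨Q, hQ, h1, h2⟩ := exists_pgroup_of_class_two ha hb hc hac hbc hab
  exact not_comm_of_pgroup hQ h1 h2 hne P

/-! ### Fixed points -/

theorem fix_eq_of_conj {α : Type*} [Fintype α] [DecidableEq α] (φ : G →* Equiv.Perm α) {x y g : G} {k : ℕ} (hx : orderOf x = p)
    (hy : orderOf y = p) (hg : g * x * g⁻¹ = y ^ k) :
    (Finset.univ.filter fun i : α => φ x i = i).card = (Finset.univ.filter fun i : α => φ y i = i).card := by
  have hp : p.Prime := Fact.out
  have hk : orderOf (y ^ k) = p := by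
    rw [← hg, ← hx]
    have := orderOf_injective (MulAut.conj g).toMonoidHom (MulAut.conj g).injective x
    simpa [MulAut.conj_apply] using this
  have hz : zpowers (y ^ k) = zpowers y := by
    apply Subgroup.eq_of_le_of_card_ge
    · rw [zpowers_le]; exact pow_mem (mem_zpowers y) k
    · rw [Nat.card_zpowers, Nat.card_zpowers, hk, hy]
    
  have hm : y ∈ zpowers (y ^ k) := by rw [hz]; exact mem_zpowers y
  obtain ⟨m, hm⟩ := mem_zpowers_iff.1 hm
  refine Finset.card_bij (fun i _ => φ g i) ?_ ?_ ?_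
  · intro i hi
    rw [Finset.mem_filter] at hi ⊢
    refine ⟨Finset.mem_univ _, ?_⟩
    have h1 : φ (y ^ k) (φ g i) = φ g i := by
      rw [← hg, map_mul, map_mul, map_inv, Equiv.Perm.mul_apply, Equiv.Perm.mul_apply, Equiv.Perm.inv_eq_iff_eq.2 rfl,
        hi.2]
    rw [← hm, map_zpow]
    exact Equiv.Perm.zpow_apply_eq_self_of_apply_eq_self h1 m
  · intro i _ j _ h
    exact (φ g).injective h
  · intro j hj
    rw [Finset.mem_filter] at hj
    refine ⟨φ g⁻¹ j, ?_, ?_⟩
    · rw [Finset.mem_filter]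
      refine ⟨Finset.mem_univ _, ?_⟩
      have h1 : x = g⁻¹ * y ^ k * g := by rw [← hg]; group
      rw [h1, map_mul, map_mul, Equiv.Perm.mul_apply, Equiv.Perm.mul_apply]
      have h2 : φ g (φ g⁻¹ j) = j := by rw [map_inv]; exact (φ g).apply_symm_apply j
      rw [h2, map_pow, Equiv.Perm.pow_apply_eq_self_of_apply_eq_self hj.2]
    · rw [map_inv]; exact (φ g).apply_symm_apply j

theorem PCent.fix_eq (h : PCent p G) (P : Sylow p G) (hP : Nat.card (P : Subgroup G) = p ^ 3)
    (hna : ¬ IsMulCommutative (P : Subgroup G)) {α : Type*} [Fintype α] [DecidableEq α] (φ : G →* Equiv.Perm α) {x y : G} (hx : orderOf x = p)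
    (hy : orderOf y = p) :
    (Finset.univ.filter fun i : α => φ x i = i).card = (Finset.univ.filter fun i : α => φ y i = i).card := by
  obtain ⟨g, k, hg⟩ := h.conj_cube P hP hna hx hy
  exact fix_eq_of_conj φ hx hy hg

/-- the number of `k < n` with `P k` -/
def cntB (n : ℕ) (P : ℕ → Bool) : ℕ := Nat.rec 0 (fun k ih => bif P k then Nat.succ ih else ih) n

theorem card_filter_cntB (n : ℕ) (P : ℕ → Bool) : ((Finset.range n).filter (fun y => P y = true)).card = cntB n P := by
  induction n with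
  | zero => rfl
  | succ k ih =>
    have h : cntB (k + 1) P = bif P k then Nat.succ (cntB k P) else cntB k P := rfl
    rw [Finset.range_add_one, Finset.filter_insert, h]
    rcases hP : P k with _ | _
    · rw [if_neg (by simp), cond_false, ih]
    · rw [if_pos rfl, cond_true, Finset.card_insert_of_notMem (by simp), ih]

theorem card_fix {n : ℕ} (s : Equiv.Perm (Fin n)) (f : ℕ → ℕ) (hf : ∀ i : Fin n, f i = (s i : ℕ)) :
    (Finset.univ.filter fun i : Fin n => s i = i).card = cntB n fun k => Nat.beq (f k) k := by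
  rw [← card_filter_cntB]
  refine Finset.card_bij (fun i _ => (i : ℕ)) ?_ ?_ ?_
  · intro i hi
    rw [Finset.mem_filter] at hi ⊢
    refine ⟨Finset.mem_range.2 i.2, ?_⟩
    rw [hf i, hi.2]; exact Nat.beq_refl _
  · intro i _ j _ h
    exact Fin.ext h
  · intro k hk
    rw [Finset.mem_filter, Finset.mem_range] at hk
    refine ⟨⟨k, hk.1⟩, ?_, rfl⟩
    rw [Finset.mem_filter]
    refine ⟨Finset.mem_univ _, Fin.ext ?_⟩
    rw [← hf]
    exact Nat.eq_of_beq_eq_true hk.2

end

end Cfsg.Agent.H573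
end

-- part: H573/Spor/Norm
section
set_option linter.all false
open scoped Cfsg.Agent.FastGrp

/-!
# A criterion for `¬ PCent p G` : `p`-elements normalizing but not centralizing a cyclic `p`-subgroup (helper573)

`NormP p G` : there are `p`-elements `y`, `g` of `G` such that `g` normalizes `⟨y⟩` and does not centralize `y`
(for instance a subgroup `C₉ ⋊ C₃` for `p = 3`, which occurs in the alternating group of degree 9).

* `NormP.not_pcent` : such a group is not `PCent p`;
* `NormP.map` : it goes up along injective homomorphisms;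
* `NormP.lift` : it lifts along surjective homomorphisms whose kernel has order prime to `p`;
* `normP_perm` : `Alt (Fin n)`, `9 ≤ n`.
-/

set_option autoImplicit false

namespace Cfsg.Agent.H573

open Subgroup

/-- there are `p`-elements `y`, `g` with `g` normalizing but not centralizing `⟨y⟩` -/
def NormP (p : ℕ) (G : Type*) [Group G] : Prop :=
  ∃ y g : G, (∃ k : ℕ, y ^ p ^ k = 1) ∧ (∃ k : ℕ, g ^ p ^ k = 1) ∧ g * y * g⁻¹ ∈ zpowers y ∧ g * y ≠ y * g

theorem NormP.map {p : ℕ} {G H : Type*} [Group G] [Group H] (h : NormP p G) (θ : G →* H)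
    (hθ : Function.Injective θ) : NormP p H := by
  obtain ⟨y, g, ⟨k, hy⟩, ⟨l, hg⟩, h1, h2⟩ := h
  refine ⟨θ y, θ g, ⟨k, by rw [← map_pow, hy, map_one]⟩, ⟨l, by rw [← map_pow, hg, map_one]⟩, ?_, ?_⟩
  · rw [← map_mul, ← map_inv, ← map_mul, ← MonoidHom.map_zpowers]
    exact ⟨_, h1, rfl⟩
  · intro h3
    apply h2
    apply hθ
    rw [map_mul, map_mul, h3]

theorem exists_orderOf_of_pow {p : ℕ} [Fact p.Prime] {G : Type*} [Group G] {x : G} (h : ∃ k : ℕ, x ^ p ^ k = 1) :
    ∃ k : ℕ, orderOf x = p ^ k := by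
  obtain ⟨k, hk⟩ := h
  obtain ⟨j, -, hj⟩ := (Nat.dvd_prime_pow Fact.out).1 (orderOf_dvd_of_pow_eq_one hk)
  exact ⟨j, hj⟩

theorem NormP.not_pcent {p : ℕ} {G : Type*} [Group G] [Finite G] [Fact p.Prime] (h : NormP p G) : ¬ PCent p G := by
  intro hc
  obtain ⟨y, g, hy, ⟨l, hg⟩, h1, h2⟩ := h
  have hi := hc y (exists_orderOf_of_pow hy)
  set C := centralizer ({y} : Set G) with hC
  set N := normalizer (zpowers y : Set G) with hN
  have hgN : g ∈ N := by
    have h3 : (zpowers y).map (MulAut.conj g).toMonoidHom = zpowers y := by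
      have h4 : (zpowers y).map (MulAut.conj g).toMonoidHom ≤ zpowers y := by
        rw [MonoidHom.map_zpowers, zpowers_le]
        exact h1
      apply Subgroup.eq_of_le_of_card_ge h4
      rw [card_map_of_injective (MulAut.conj g).injective]
    rw [hN, mem_normalizer_iff]
    intro x
    constructor
    · intro hx
      rw [← h3]
      exact ⟨x, hx, rfl⟩
    · intro hx
      rw [← h3] at hx
      obtain ⟨z, hz, hz'⟩ := hx
      have h5 : g * z * g⁻¹ = g * x * g⁻¹ := hz'
      have h6 : z = x := mul_left_cancel (mul_right_cancel h5)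
      exact h6 ▸ hz
  have hCN : C ≤ N := by
    intro c hc
    rw [hC, mem_centralizer_singleton_iff] at hc
    rw [hN, mem_normalizer_iff]
    intro x
    have h3 : ∀ x ∈ zpowers y, c * x * c⁻¹ = x := by
      intro x hx
      obtain ⟨m, rfl⟩ := mem_zpowers_iff.1 hx
      rw [(show Commute c y from hc).zpow_right m |>.eq, mul_inv_cancel_right]
    constructor
    · intro hx
      rw [h3 x hx]; exact hx
    · intro hx
      have h4 := h3 _ hx
      have h5 : c * x * c⁻¹ = x := mul_left_cancel (mul_right_cancel h4)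
      rwa [h5] at hx
  have hnorm : (C.subgroupOf N).Normal := by
    constructor
    rintro ⟨c, hcN⟩ hcC ⟨n, hn⟩
    rw [mem_subgroupOf] at hcC ⊢
    have hcC' : c * y = y * c := mem_centralizer_singleton_iff.1 hcC
    show n * c * n⁻¹ ∈ C
    rw [hC, mem_centralizer_singleton_iff]
    have h3 : n⁻¹ * y * n ∈ zpowers y := by
      have h4 := (mem_normalizer_iff.1 (N.inv_mem hn) y).1 (mem_zpowers y)
      simpa using h4
    obtain ⟨m, hm⟩ := mem_zpowers_iff.1 h3
    have h4 : c * (n⁻¹ * y * n) = n⁻¹ * y * n * c := by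
      rw [← hm]
      exact ((show Commute c y from hcC').zpow_right m).eq
    calc n * c * n⁻¹ * y = n * (c * (n⁻¹ * y * n)) * n⁻¹ := by group
      _ = n * (n⁻¹ * y * n * c) * n⁻¹ := by rw [h4]
      _ = y * (n * c * n⁻¹) := by group
  have hrel : ¬ p ∣ (C.subgroupOf N).index := fun hd => hi (hd.trans (relIndex_dvd_index_of_le hCN))
  -- the image of `g` in the quotient
  set q : N ⧸ C.subgroupOf N := QuotientGroup.mk' _ ⟨g, hgN⟩ with hq
  have hq1 : q ^ p ^ l = 1 := by
    rw [hq, ← map_pow]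
    have : (⟨g, hgN⟩ : N) ^ p ^ l = 1 := Subtype.ext hg
    rw [this, map_one]
  have hq2 : orderOf q ∣ (C.subgroupOf N).index := orderOf_dvd_natCard q
  have hco : Nat.Coprime (p ^ l) (C.subgroupOf N).index :=
    Nat.Coprime.pow_left _ ((Nat.Prime.coprime_iff_not_dvd Fact.out).2 hrel)
  have hq3 : orderOf q = 1 := Nat.eq_one_of_dvd_coprimes hco (orderOf_dvd_of_pow_eq_one hq1) hq2
  have hq4 : q = 1 := orderOf_eq_one_iff.1 hq3
  rw [hq] at hq4
  have h5 : (⟨g, hgN⟩ : N) ∈ C.subgroupOf N := (QuotientGroup.eq_one_iff _).1 hq4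
  rw [mem_subgroupOf] at h5
  exact h2 (mem_centralizer_singleton_iff.1 h5)

/-- lifting along a surjective homomorphism whose kernel has order prime to `p` -/
theorem NormP.lift {p : ℕ} [Fact p.Prime] {X Y : Type*} [Group X] [Finite X] [Group Y] (h : NormP p Y)
    (f : X →* Y) (hf : Function.Surjective f) (hk : ¬ p ∣ Nat.card f.ker) : NormP p X := by
  have hp : p.Prime := Fact.out
  have : Finite Y := Finite.of_surjective f hf
  obtain ⟨y, g, hy, hg, h1, h2⟩ := h
  -- the `p`-group generated by `y` and `g`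
  have hy' : IsPGroup p (zpowers y) := by
    obtain ⟨k, hk⟩ := exists_orderOf_of_pow hy
    exact IsPGroup.of_card (n := k) (by rw [Nat.card_zpowers, hk])
  have hg' : IsPGroup p (zpowers g) := by
    obtain ⟨k, hk⟩ := exists_orderOf_of_pow hg
    exact IsPGroup.of_card (n := k) (by rw [Nat.card_zpowers, hk])
  have hgN : zpowers g ≤ normalizer (zpowers y : Set Y) := by
    rw [zpowers_le]
    have h3 : (zpowers y).map (MulAut.conj g).toMonoidHom = zpowers y := by
      have h4 : (zpowers y).map (MulAut.conj g).toMonoidHom ≤ zpowers y := by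
        rw [MonoidHom.map_zpowers, zpowers_le]
        exact h1
      apply Subgroup.eq_of_le_of_card_ge h4
      rw [card_map_of_injective (MulAut.conj g).injective]
    rw [mem_normalizer_iff]
    intro x
    constructor
    · intro hx
      rw [← h3]
      exact ⟨x, hx, rfl⟩
    · intro hx
      rw [← h3] at hx
      obtain ⟨z, hz, hz'⟩ := hx
      have h5 : g * z * g⁻¹ = g * x * g⁻¹ := hz'
      have h6 : z = x := mul_left_cancel (mul_right_cancel h5)
      exact h6 ▸ hz
  have hQ : IsPGroup p (zpowers g ⊔ zpowers y : Subgroup Y) := hg'.to_sup_of_normal_right' hy' hgN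
  obtain ⟨S, hS⟩ := hQ.exists_le_sylow
  let P : Sylow p X := default
  obtain ⟨u, hu⟩ := MulAction.exists_smul_eq Y S (P.mapSurjective hf)
  have hmem : ∀ s ∈ (S : Subgroup Y), ∃ x ∈ (P : Subgroup X), f x = u * s * u⁻¹ := by
    intro s hs
    have h3 : u * s * u⁻¹ ∈ ((P.mapSurjective hf : Sylow p Y) : Subgroup Y) := by
      rw [← hu]
      exact Subgroup.smul_mem_pointwise_smul s (MulAut.conj u) _ hs
    obtain ⟨x, hx, hx'⟩ := h3
    exact ⟨x, hx, hx'⟩
  obtain ⟨a, ha, ha'⟩ := hmem y (hS ((le_sup_right : zpowers y ≤ _) (mem_zpowers y)))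
  obtain ⟨b, hb, hb'⟩ := hmem g (hS ((le_sup_left : zpowers g ≤ _) (mem_zpowers g)))
  -- `f` is injective on `P`
  have hinj : ∀ x ∈ (P : Subgroup X), f x = 1 → x = 1 := by
    intro x hx hfx
    obtain ⟨k, hk1⟩ := P.2.exists_card_eq
    have h3 : orderOf x ∣ p ^ k := by
      rw [← hk1]
      have := orderOf_dvd_natCard (⟨x, hx⟩ : (P : Subgroup X))
      rwa [Subgroup.orderOf_mk] at this
    have h4 : orderOf x ∣ Nat.card f.ker := by
      have := orderOf_dvd_natCard (⟨x, MonoidHom.mem_ker.2 hfx⟩ : f.ker)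
      rwa [Subgroup.orderOf_mk] at this
    have hco : Nat.Coprime (p ^ k) (Nat.card f.ker) :=
      Nat.Coprime.pow_left _ ((Nat.Prime.coprime_iff_not_dvd Fact.out).2 hk)
    exact orderOf_eq_one_iff.1 (Nat.eq_one_of_dvd_coprimes hco h3 h4)
  have hpow : ∀ x ∈ (P : Subgroup X), ∃ k : ℕ, x ^ p ^ k = 1 := by
    intro x hx
    obtain ⟨k, hk1⟩ := P.2 ⟨x, hx⟩
    exact ⟨k, congrArg Subtype.val hk1⟩
  refine ⟨a, b, hpow a ha, hpow b hb, ?_, ?_⟩
  · obtain ⟨m, hm⟩ := mem_zpowers_iff.1 h1
    rw [mem_zpowers_iff]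
    refine ⟨m, ?_⟩
    have h3 : (b * a * b⁻¹)⁻¹ * a ^ m = 1 := by
      apply hinj
      · exact mul_mem (inv_mem (mul_mem (mul_mem hb ha) (inv_mem hb))) (zpow_mem ha m)
      · rw [map_mul, map_inv, map_mul, map_mul, map_inv, map_zpow, ha', hb', conj_zpow, hm]
        group
    exact (inv_mul_eq_one.1 h3).symm
  · intro h3
    apply h2
    have h4 := congrArg f h3
    rw [map_mul, map_mul, ha', hb'] at h4
    have h5 : u * (g * y) * u⁻¹ = u * (y * g) * u⁻¹ := by
      calc u * (g * y) * u⁻¹ = u * g * u⁻¹ * (u * y * u⁻¹) := by group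
        _ = u * y * u⁻¹ * (u * g * u⁻¹) := h4
        _ = u * (y * g) * u⁻¹ := by group
    exact mul_left_cancel (mul_right_cancel h5)

/-- transport along an isomorphism -/
theorem NormP.congr {p : ℕ} {G H : Type*} [Group G] [Group H] (e : G ≃* H) (h : NormP p G) : NormP p H :=
  h.map e.toMonoidHom e.injective

theorem NormP.of_le {p : ℕ} {G : Type*} [Group G] {H : Subgroup G} (h : NormP p H) : NormP p G :=
  h.map H.subtype H.subtype_injective

section Alt

/-- multiplication by 4 on `0, ..., 8`, for `n ≥ 9` points -/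
def four (n : ℕ) (_ : 9 ≤ n) : Fin n → Fin n := fun i => if _ : (i : ℕ) < 9 then ⟨4 * i % 9, by omega⟩ else i
def seven (n : ℕ) (_ : 9 ≤ n) : Fin n → Fin n := fun i => if _ : (i : ℕ) < 9 then ⟨7 * i % 9, by omega⟩ else i
def rotU (n : ℕ) (_ : 9 ≤ n) : Fin n → Fin n := fun i => if _ : (i : ℕ) < 9 then ⟨(i + 1) % 9, by omega⟩ else i
def rotD (n : ℕ) (_ : 9 ≤ n) : Fin n → Fin n := fun i => if _ : (i : ℕ) < 9 then ⟨(i + 8) % 9, by omega⟩ else i

def pFour (n : ℕ) (h : 9 ≤ n) : Equiv.Perm (Fin n) where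
  toFun := four n h
  invFun := seven n h
  left_inv i := by unfold four seven; ext; split_ifs with h1 h2 <;> simp at * <;> omega
  right_inv i := by unfold four seven; ext; split_ifs with h1 h2 <;> simp at * <;> omega

def pRot (n : ℕ) (h : 9 ≤ n) : Equiv.Perm (Fin n) where
  toFun := rotU n h
  invFun := rotD n h
  left_inv i := by unfold rotU rotD; ext; split_ifs with h1 h2 <;> simp at * <;> omega
  right_inv i := by unfold rotU rotD; ext; split_ifs with h1 h2 <;> simp at * <;> omega

theorem four_val (n : ℕ) (h : 9 ≤ n) (i : Fin n) :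
    ((four n h i : Fin n) : ℕ) = if (i : ℕ) < 9 then 4 * (i : ℕ) % 9 else (i : ℕ) := by
  unfold four; split_ifs <;> rfl

theorem rotU_val (n : ℕ) (h : 9 ≤ n) (i : Fin n) :
    ((rotU n h i : Fin n) : ℕ) = if (i : ℕ) < 9 then ((i : ℕ) + 1) % 9 else (i : ℕ) := by
  unfold rotU; split_ifs <;> rfl

theorem pRot_pow (n : ℕ) (h : 9 ≤ n) (k : ℕ) (i : Fin n) :
    (((pRot n h ^ k) i : Fin n) : ℕ) = if (i : ℕ) < 9 then ((i : ℕ) + k) % 9 else (i : ℕ) := by
  induction k generalizing i with
  | zero => simp; intro h; omega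
  | succ k ih =>
    rw [pow_succ, Equiv.Perm.mul_apply, ih]
    show (if ((rotU n h i : Fin n) : ℕ) < 9 then (((rotU n h i : Fin n) : ℕ) + k) % 9 else ((rotU n h i : Fin n) : ℕ)) = _
    rw [rotU_val]
    by_cases hi : (i : ℕ) < 9
    · rw [if_pos hi, if_pos hi, if_pos (by omega)]; omega
    · rw [if_neg hi, if_neg hi, if_neg hi]

theorem normP_perm (n : ℕ) (h : 9 ≤ n) : NormP 3 (alternatingGroup (Fin n)) := by
  have h1 : pRot n h ^ 9 = 1 := by
    ext i; rw [pRot_pow]; split_ifs <;> simp <;> omega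
  have h2 : pFour n h ^ 3 = 1 := by
    ext i
    show ((four n h (four n h (four n h i)) : Fin n) : ℕ) = i
    rw [four_val, four_val, four_val]
    by_cases hi : (i : ℕ) < 9
    · rw [if_pos hi, if_pos (show 4 * (i : ℕ) % 9 < 9 by omega), if_pos (by omega)]; omega
    · rw [if_neg hi, if_neg hi, if_neg hi]
  have h3 : pFour n h * pRot n h = pRot n h ^ 4 * pFour n h := by
    ext i
    rw [Equiv.Perm.mul_apply, Equiv.Perm.mul_apply, pRot_pow]
    show ((four n h (rotU n h i) : Fin n) : ℕ) =
      if ((four n h i : Fin n) : ℕ) < 9 then (((four n h i : Fin n) : ℕ) + 4) % 9 else ((four n h i : Fin n) : ℕ)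
    rw [four_val, four_val, rotU_val]
    by_cases hi : (i : ℕ) < 9
    · rw [if_pos hi, if_pos hi, if_pos (show ((i : ℕ) + 1) % 9 < 9 by omega), if_pos (by omega)]; omega
    · rw [if_neg hi, if_neg hi, if_neg hi]
  have hodd : ∀ f : Equiv.Perm (Fin n), ∀ k, f ^ (2 * k + 1) = 1 → f ∈ alternatingGroup (Fin n) := by
    intro f k hf
    rw [Equiv.Perm.mem_alternatingGroup]
    have h4 := congrArg Equiv.Perm.sign hf
    rw [map_pow, map_one, pow_succ, pow_mul, Int.units_sq, one_pow, one_mul] at h4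
    exact h4
  have h5 := hodd _ 4 h1
  have h6 := hodd _ 1 h2
  refine ⟨⟨_, h5⟩, ⟨_, h6⟩, ⟨2, Subtype.ext h1⟩, ⟨1, Subtype.ext (by simpa using h2)⟩, ?_, ?_⟩
  · rw [mem_zpowers_iff]
    refine ⟨4, Subtype.ext ?_⟩
    show pRot n h ^ (4 : ℤ) = pFour n h * pRot n h * (pFour n h)⁻¹
    rw [h3, mul_inv_cancel_right]
    rfl
  · intro h7
    have h8 : pFour n h * pRot n h = pRot n h * pFour n h := congrArg Subtype.val h7
    have h9 := congrArg (fun f : Equiv.Perm (Fin n) => ((f ⟨0, by omega⟩ : Fin n) : ℕ)) h8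
    have e1 : (((pFour n h * pRot n h) ⟨0, by omega⟩ : Fin n) : ℕ) = 4 := by
      show ((four n h (rotU n h ⟨0, by omega⟩) : Fin n) : ℕ) = 4
      rw [four_val, rotU_val]; simp
    have e2 : (((pRot n h * pFour n h) ⟨0, by omega⟩ : Fin n) : ℕ) = 1 := by
      show ((rotU n h (four n h ⟨0, by omega⟩) : Fin n) : ℕ) = 1
      rw [rotU_val, four_val]; simp
    have h10 : (4 : ℕ) = 1 := e1.symm.trans (h9.trans e2)
    omega

end Alt

end Cfsg.Agent.H573

private theorem dce_73426e7088c6 : _root_.True := by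
  try have : _root_.True := by simp only [_root_.Cfsg.Agent.H573.pRot.congr_simp]
  try have : _root_.True := by simp only [_root_.Cfsg.Agent.H573.pFour.congr_simp]
  exact _root_.True.intro
end

-- part: H573/Spor/Sep
section
set_option linter.all false
open scoped Cfsg.Agent.FastGrp

/-!
# Two classes of subgroups of order `p` (helper573)

Light versions of `PCent.comm_of_sep` and `Spor.comm_of_iso` (which live in `Spor/MThirteen`).
-/

set_option autoImplicit false

namespace Cfsg.Agent.H573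

open Subgroup

/-- two subgroups of order `p` which are not conjugate, `|P| = p ^ 3`: abelian Sylow subgroups -/
theorem PCent.mulComm_of_sep {G : Type*} [Group G] [Finite G] {p : ℕ} [Fact p.Prime] (h : PCent p G)
    (h3 : p ^ 3 ∣ Nat.card G) (h4 : ¬ p ^ (3 + 1) ∣ Nat.card G) {x y : G} (hx : orderOf x = p) (hy : orderOf y = p)
    (hn : ∀ (g : G) (k : ℕ), g * x * g⁻¹ ≠ y ^ k) (P : Sylow p G) : IsMulCommutative (P : Subgroup G) := by
  by_contra hna
  obtain ⟨g, k, hg⟩ := h.conj_cube P (card_sylow_of P h3 h4) hna hx hy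
  exact hn g k hg

/-- transport of the rows -/
theorem Spor.mulComm_of_iso {p : ℕ} (hp : p.Prime) {X : Type*} [Group X] (hX : Nat.card X ≠ 0)
    (h : PCent p X → ∀ P : Sylow p X, IsMulCommutative (P : Subgroup X)) {G : Type*} [Group G]
    (hG : Nonempty (G ≃* X)) (hc : PCent p G) (P : Sylow p G) : IsMulCommutative (P : Subgroup G) := by
  obtain ⟨e⟩ := hG
  have : Fact p.Prime := ⟨hp⟩
  have : Finite X := Nat.finite_of_card_ne_zero hX
  have : Finite G := Finite.of_equiv _ e.symm.toEquiv
  have h1 := h (hc.congr e) (P.mapSurjective (f := e.toMonoidHom) e.surjective)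
  refine ⟨⟨fun a b => Subtype.ext (e.injective ?_)⟩⟩
  have h2 := h1.is_comm.comm ⟨e a, ⟨a, a.2, rfl⟩⟩ ⟨e b, ⟨b, b.2, rfl⟩⟩
  have h3 : e a * e b = e b * e a := congrArg Subtype.val h2
  show e ((a : G) * b) = e ((b : G) * a)
  rw [map_mul, map_mul, h3]

end Cfsg.Agent.H573
end

-- part: H183/HgHeis
section
set_option linter.all false
open scoped Cfsg.Agent.FastGrp

/-!
# Heisenberg subgroups of rank two groups of Lie type of odd characteristic (helper183)

`HasHeis p G` : `G` contains elements `a, b, c` of `p`-power order with `a b = b a c`, `c ≠ 1`, `c` commuting with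
`a` and `b`; then Sylow `p`-subgroups of `G` are not abelian.  Instances: `PSL₃(q)`, `PSU₃(q)` (odd characteristic).
-/

set_option autoImplicit false

namespace Cfsg.Agent.H183.HgHeis

open Matrix Cfsg.Agent.LieClassical.HermSiegel Cfsg.Agent.LieClassical

/-- three elements of `p`-power order generating a group of class two -/
def HasHeis (p : ℕ) (G : Type*) [Group G] : Prop :=
  ∃ (a b c : G) (i j k : ℕ), a ^ p ^ i = 1 ∧ b ^ p ^ j = 1 ∧ c ^ p ^ k = 1 ∧ a * c = c * a ∧ b * c = c * b ∧
    a * b = b * a * c ∧ c ≠ 1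

theorem HasHeis.not_comm {p : ℕ} [Fact p.Prime] {G : Type*} [Group G] [Finite G] (h : HasHeis p G) (P : Sylow p G) :
    ¬ IsMulCommutative (P : Subgroup G) := by
  obtain ⟨a, b, c, i, j, k, ha, hb, hc, hac, hbc, hab, hne⟩ := h
  refine Cfsg.Agent.H573.not_comm_of_class_two ha hb hc hac hbc hab ?_ P
  intro h
  apply hne
  have h1 := hab
  rw [h] at h1
  exact (mul_eq_left.mp h1.symm)

theorem HasHeis.map {p : ℕ} {G H : Type*} [Group G] [Group H] (f : G →* H) {a b c : G} {i j k : ℕ}
    (ha : a ^ p ^ i = 1) (hb : b ^ p ^ j = 1) (hc : c ^ p ^ k = 1) (hac : a * c = c * a) (hbc : b * c = c * b)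
    (hab : a * b = b * a * c) (hne : f c ≠ 1) : HasHeis p H :=
  ⟨f a, f b, f c, i, j, k, by rw [← map_pow, ha, map_one], by rw [← map_pow, hb, map_one],
    by rw [← map_pow, hc, map_one], by rw [← map_mul, hac, map_mul], by rw [← map_mul, hbc, map_mul],
    by rw [← map_mul, hab, map_mul, map_mul], hne⟩

theorem HasHeis.of_equiv {p : ℕ} {G H : Type*} [Group G] [Group H] (e : G ≃* H) (h : HasHeis p H) : HasHeis p G := by
  obtain ⟨a, b, c, i, j, k, ha, hb, hc, hac, hbc, hab, hne⟩ := h
  exact HasHeis.map e.symm.toMonoidHom ha hb hc hac hbc hab (by simpa using hne)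

section PSL
variable {F : Type*} [Field F]

/-- a transvection as an element of `SL` -/
def tv (i j : Fin 3) (h : i ≠ j) (c : F) : _root_.Matrix.SpecialLinearGroup (Fin 3) F :=
  ⟨transvection i j c, det_transvection_of_ne i j h c⟩

theorem tv_pow (i j : Fin 3) (h : i ≠ j) (c : F) (n : ℕ) : tv i j h c ^ n = tv i j h (n * c) := by
  induction n with
  | zero =>
    rw [pow_zero]
    apply Subtype.ext
    simp only [tv, _root_.Matrix.SpecialLinearGroup.coe_one, _root_.Nat.cast_zero, _root_.MulZeroClass.zero_mul, _root_.Matrix.transvection_zero]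
  | succ n ih =>
    rw [pow_succ, ih]
    apply Subtype.ext
    change transvection i j _ * transvection i j _ = transvection i j _
    rw [transvection_mul_transvection_same (h := h)]
    congr 1
    push_cast
    ring

theorem psl_three (p : ℕ) [Fact p.Prime] [CharP F p] :
    HasHeis p (ProjectiveSpecialLinearGroup (Fin 3) F) := by
  have hp : ∀ (i j : Fin 3) (h : i ≠ j), tv i j h (1 : F) ^ p ^ 1 = 1 := by
    intro i j h
    rw [pow_one, tv_pow, CharP.cast_eq_zero, zero_mul]
    apply Subtype.ext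
    simp only [tv, _root_.Matrix.transvection_zero, _root_.Matrix.SpecialLinearGroup.coe_one]
  have h01 : (0 : Fin 3) ≠ 1 := by decide
  have h12 : (1 : Fin 3) ≠ 2 := by decide
  have h02 : (0 : Fin 3) ≠ 2 := by decide
  refine HasHeis.map (QuotientGroup.mk' _) (hp 0 1 h01) (hp 1 2 h12) (hp 0 2 h02) ?_ ?_ ?_ ?_
  · apply Subtype.ext
    change transvection _ _ _ * transvection _ _ _ = transvection _ _ _ * transvection _ _ _
    ext i j
    (revert i j; simp only [transvection, Matrix.mul_apply, Fin.sum_univ_three, Matrix.single, Matrix.one_apply, _root_.Fin.forall_fin_succ, Fin.isValue, _root_.Matrix.add_apply, _root_.Matrix.of_apply, _root_.one_ne_zero, _root_.and_false, ↓reduceIte, _root_.add_zero, _root_.true_and, _root_.ite_mul, _root_.one_mul, _root_.MulZeroClass.zero_mul, _root_.and_true, _root_.zero_ne_one, _root_.false_and, _root_.mul_ite, _root_.mul_one, _root_.MulZeroClass.mul_zero, Fin.reduceEq, _root_.Fin.succ_zero_eq_one, _root_.ite_self, _root_.zero_add, _root_.Fin.succ_one_eq_two,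 _root_.IsEmpty.forall_iff, _root_.and_self, _root_.Fin.succ_ne_zero, _root_.add_eq_left, _root_.ite_eq_right_iff, _root_.imp_false, _root_.left_eq_add, _root_.not_false_eq_true])
  · apply Subtype.ext
    change transvection _ _ _ * transvection _ _ _ = transvection _ _ _ * transvection _ _ _
    ext i j
    (revert i j; simp only [transvection, Matrix.mul_apply, Fin.sum_univ_three, Matrix.single, Matrix.one_apply, _root_.Fin.forall_fin_succ, Fin.isValue, _root_.Matrix.add_apply, _root_.Matrix.of_apply, Fin.reduceEq, _root_.and_false, ↓reduceIte, _root_.add_zero, _root_.true_and, _root_.ite_mul, _root_.one_mul, _root_.MulZeroClass.zero_mul, _root_.zero_ne_one, _root_.false_and, _root_.mul_ite, _root_.mul_one, _root_.MulZeroClass.mul_zero, _root_.and_true, _root_.one_ne_zero, _root_.ite_self, _root_.Fin.succ_zero_eq_one, _root_.zero_add, _root_.Fin.succ_one_eq_two, _root_.IsEmpty.forall_iff, _root_.Fin.succ_ne_zero, _root_.and_self])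
  · apply Subtype.ext
    change transvection _ _ _ * transvection _ _ _ = transvection _ _ _ * transvection _ _ _ * transvection _ _ _
    ext i j
    (revert i j; simp only [transvection, Matrix.mul_apply, Fin.sum_univ_three, Matrix.single, Matrix.one_apply, _root_.Fin.forall_fin_succ, Fin.isValue, _root_.Matrix.add_apply, _root_.Matrix.of_apply, _root_.one_ne_zero, _root_.and_false, ↓reduceIte, _root_.add_zero, _root_.false_and, _root_.mul_ite, _root_.mul_one, _root_.MulZeroClass.mul_zero, _root_.and_true, _root_.true_and, Fin.reduceEq, _root_.ite_mul, _root_.one_mul, _root_.MulZeroClass.zero_mul, _root_.zero_ne_one, _root_.zero_add, _root_.ite_self, _root_.Fin.succ_zero_eq_one, _root_.Fin.succ_one_eq_two, _root_.IsEmpty.forall_iff, _root_.and_self, _root_.Fin.succ_ne_zero, _root_.add_eq_left, _root_.ite_eq_right_iff, _root_.imp_false, _root_.not_false_eq_true])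
  · intro h
    have h1 : tv 0 2 h02 (1 : F) ∈ Subgroup.center (_root_.Matrix.SpecialLinearGroup (Fin 3) F) := by
      rw [← QuotientGroup.eq_one_iff]
      exact h
    rw [Matrix.SpecialLinearGroup.mem_center_iff] at h1
    obtain ⟨r, -, hr⟩ := h1
    have h2 := congrFun (congrFun hr 0) 2
    simp [tv, transvection, Matrix.single, Matrix.scalar_apply, Matrix.one_apply] at h2

end PSL

section PSU
variable {F : Type*} [Field F] [Fintype F] {q : ℕ}

omit [Fintype F] in
theorem mat_pow {n : ℕ} (g : SU n F q) (k : ℕ) : mat (g ^ k) = mat g ^ k := by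
  induction k with
  | zero => simp [mat_one]
  | succ k ih => rw [pow_succ, mat_mul, ih, pow_succ]

theorem siegel_pow_p (hF : Fintype.card F = q ^ 2) (p : ℕ) [Fact p.Prime] [CharP F p] (hp : p ≠ 2) {u w : Fin 3 → F}
    {μ : F} (h : IsSiegel q u w μ) : siegel hF u w μ h ^ p = 1 := by
  have h3 : 3 ≤ p := by
    have := (Fact.out : p.Prime).two_le
    omega
  apply mat_injective
  rw [mat_pow, mat_one]
  have hN : ∀ v : Fin 3 → F, (mat (siegel hF u w μ h) - 1) *ᵥ v = hermForm 3 F q v u • w +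
      (μ * hermForm 3 F q v u - hermForm 3 F q v w) • u := by
    intro v
    rw [Matrix.sub_mulVec, Matrix.one_mulVec]
    have := act_siegel hF h v
    rw [act_def] at this
    rw [this]
    abel
  set N := mat (siegel hF u w μ h) - 1 with hNd
  have hN3 : N * (N * N) = 0 := by
    apply Matrix.ext_of_mulVec_single
    intro i
    rw [← Matrix.mulVec_mulVec, ← Matrix.mulVec_mulVec, hN, hN, hN]
    simp only [HermBasic.herm_add_left, HermBasic.herm_smul_left, h.iso, h.orth, h.orth' hF, _root_.MulZeroClass.mul_zero, _root_.add_zero, _root_.zero_smul, _root_.zero_sub, _root_.neg_smul, _root_.zero_add, _root_.Matrix.mulVec_single, _root_.MulOpposite.op_one, _root_.one_smul]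
    rw [← neg_smul, HermBasic.herm_smul_left, HermBasic.herm_smul_left, h.iso, h.orth' hF]
    ext j
    simp
  have hNp : N ^ p = 0 := by
    obtain ⟨m, rfl⟩ : ∃ m, p = 3 + m := ⟨p - 3, by omega⟩
    rw [pow_add]
    have : N ^ 3 = 0 := by rw [pow_succ, pow_two, Matrix.mul_assoc]; exact hN3
    rw [this, zero_mul]
  have h1 : mat (siegel hF u w μ h) = 1 + N := by rw [hNd]; abel
  rw [h1, add_pow_char_of_commute p (Commute.one_left N), one_pow, hNp, add_zero]

/-- a nonzero transvection is not central -/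
theorem transv_not_mem (hF : Fintype.card F = q ^ 2) {u : Fin 3 → F} (hu : u ≠ 0) {ν : F} (hν : ν ≠ 0)
    (h : IsSiegel q u 0 ν) : siegel hF u 0 ν h ∉ Subgroup.center (SU 3 F q) := by
  intro hc
  obtain ⟨c, hc1, hc2⟩ := SUBasic.exists_norm_one (F := F) hF
  have hoff : ∀ i j : Fin 3, i ≠ j → mat (siegel hF u 0 ν h) i j = 0 := fun i j hij =>
    SUBasic.offdiag_eq_zero (le_refl 3) hc1 hc2 hc hij
  have hdiag : ∀ i j : Fin 3, mat (siegel hF u 0 ν h) i i = mat (siegel hF u 0 ν h) j j := fun i j =>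
    SUBasic.diag_eq (le_refl 3) hc i j
  obtain ⟨d, hd⟩ : ∃ d : F, ∀ v : Fin 3 → F, act (siegel hF u 0 ν h) v = d • v := by
    refine ⟨mat (siegel hF u 0 ν h) 0 0, fun v => ?_⟩
    ext i
    rw [act_def]
    simp only [Matrix.mulVec, dotProduct, Pi.smul_apply, smul_eq_mul]
    rw [Finset.sum_eq_single i (fun j _ hji => by rw [hoff i j (Ne.symm hji), zero_mul]) (by simp), hdiag i 0]
  have h1 : d = 1 := by
    have h2 := hd u
    rw [act_siegel_self] at h2
    obtain ⟨i, hi⟩ := Function.ne_iff.mp hu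
    have h3 := congrFun h2 i
    rw [Pi.smul_apply, smul_eq_mul] at h3
    have h4 : (d - 1) * u i = 0 := by rw [sub_mul, one_mul, ← h3, sub_self]
    rcases mul_eq_zero.mp h4 with h5 | h5
    · exact sub_eq_zero.mp h5
    · exact absurd h5 hi
  -- then `h(v, u) = 0` for all `v`
  apply hu
  have h5 : ∀ v : Fin 3 → F, hermForm 3 F q v u = 0 := by
    intro v
    have h2 := hd v
    rw [act_siegel, h1, one_smul, smul_zero, add_zero, HermBasic.herm_zero_right hF, sub_zero] at h2
    have h6 : (ν * hermForm 3 F q v u) • u = 0 := by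
      rw [add_eq_left] at h2
      exact h2
    rcases smul_eq_zero.mp h6 with h7 | h7
    · rcases mul_eq_zero.mp h7 with h8 | h8
      · exact absurd h8 hν
      · exact h8
    · exact absurd h7 hu
  ext i
  have h6 := h5 (Pi.single i 1)
  rw [HermBasic.herm_def] at h6
  rw [Finset.sum_eq_single i (fun j _ hji => by simp [hji]) (by simp)] at h6
  simp only [Pi.single_eq_same, one_mul] at h6
  exact (pow_eq_zero_iff (by have := HermBasic.two_le hF; omega)).mp h6

theorem psu_three (hF : Fintype.card F = q ^ 2) (p : ℕ) [Fact p.Prime] [CharP F p] (hp : p ≠ 2) :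
    HasHeis p (PSU 3 F q) := by
  have hq0 : q ≠ 0 := by have := HermBasic.two_le hF; omega
  have hm1 : ((-1 : F)) ^ q = -1 := by rw [HermBasic.neg_pow_q hF, one_pow]
  obtain ⟨s, hs⟩ := HermBasic.exists_norm_eq hF hm1
  obtain ⟨μ, hμ⟩ := HermBasic.exists_trace_eq hF hm1
  obtain ⟨l, hl⟩ := HermBasic.exists_not_fixed hF
  obtain ⟨μ', hμ'⟩ := HermBasic.exists_trace_eq hF (c := -(l * l ^ q))
    (by rw [HermBasic.neg_pow_q hF, HermBasic.norm_pow_q hF])
  set u : Fin 3 → F := ![1, s, 0] with hu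
  set w : Fin 3 → F := ![0, 0, 1] with hw
  set w' : Fin 3 → F := ![0, 0, l] with hw'
  have huu : hermForm 3 F q u u = 0 := by
    rw [HermBasic.herm_def, Fin.sum_univ_three]
    simp [hu, hq0, hs]
  have hwu : hermForm 3 F q w u = 0 := by
    rw [HermBasic.herm_def, Fin.sum_univ_three]
    simp [hu, hw, hq0]
  have hwu' : hermForm 3 F q w' u = 0 := by
    rw [HermBasic.herm_def, Fin.sum_univ_three]
    simp [hu, hw', hq0]
  have hww : hermForm 3 F q w w = 1 := by
    rw [HermBasic.herm_def, Fin.sum_univ_three]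
    simp [hw]
  have hww' : hermForm 3 F q w w' = l ^ q := by
    rw [HermBasic.herm_def, Fin.sum_univ_three]
    simp [hw, hw']
  have hw'w : hermForm 3 F q w' w = l := by
    rw [HermBasic.herm_def, Fin.sum_univ_three]
    simp [hw, hw']
  have hw'w' : hermForm 3 F q w' w' = l * l ^ q := by
    rw [HermBasic.herm_def, Fin.sum_univ_three]
    simp [hw']
  have ha : IsSiegel q u w μ := ⟨huu, hwu, by rw [hww, hμ]; ring⟩
  have hb : IsSiegel q u w' μ' := ⟨huu, hwu', by rw [hw'w', hμ']; ring⟩
  have hc : IsSiegel q u 0 (l ^ q - l) := ⟨huu, HermBasic.herm_zero_left _, by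
    rw [HermBasic.herm_zero_left, HermBasic.sub_pow_q hF, HermBasic.pow_q_pow_q hF]; ring⟩
  have hu0 : u ≠ 0 := by
    intro h
    have := congrFun h 0
    simp [hu] at this
  refine HasHeis.map (i := 1) (j := 1) (k := 1) (QuotientGroup.mk' (Subgroup.center (SU 3 F q)))
    (a := siegel hF u w μ ha) (b := siegel hF u w' μ' hb) (c := siegel hF u 0 (l ^ q - l) hc)
    (by rw [pow_one]; exact siegel_pow_p hF p hp ha) (by rw [pow_one]; exact siegel_pow_p hF p hp hb)
    (by rw [pow_one]; exact siegel_pow_p hF p hp hc) ?_ ?_ ?_ ?_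
  · rw [siegel_mul, siegel_mul]
    refine siegel_congr hF _ _ rfl (by rw [add_zero, zero_add]) ?_
    rw [HermBasic.herm_zero_left, HermBasic.herm_zero_right hF]
    ring
  · rw [siegel_mul, siegel_mul]
    refine siegel_congr hF _ _ rfl (by rw [add_zero, zero_add]) ?_
    rw [HermBasic.herm_zero_left, HermBasic.herm_zero_right hF]
    ring
  · rw [siegel_mul, siegel_mul, siegel_mul]
    refine siegel_congr hF _ _ rfl (by rw [add_zero, add_comm]) ?_
    rw [HermBasic.herm_zero_left, hw'w, hww']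
    ring
  · intro h
    have h1 : siegel hF u 0 (l ^ q - l) hc ∈ Subgroup.center (SU 3 F q) := by
      rw [← QuotientGroup.eq_one_iff]
      exact h
    exact transv_not_mem hF hu0 (sub_ne_zero.mpr hl) hc h1

end PSU

end Cfsg.Agent.H183.HgHeis

private theorem dce_6e51bf9f371c : _root_.True := by
  try have : _root_.True := by simp only [_root_.Cfsg.Agent.LieClassical.HermSiegel.siegel.congr_simp]
  try have : _root_.True := by simp only [_root_.Cfsg.Agent.H183.HgHeis.tv.eq_1]
  exact _root_.True.intro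
end
end
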