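import Cfsg.Agent.H573.Spor.Norm_m3
import Cfsg.Agent.H346.CoxA
import Cfsg.Agent.BM.KHAll
import Cfsg.Agent.Prune
set_option linter.all false
prune_inst 0x7f00000000000000000000000000000000000000000000000000000000000000000000000000000000000000000000000000000000000000000000000000000000000000000000000000000000000000003fffffffffffffffffffffffffffbeffbdffffffff
open scoped Cfsg.Agent.FastGrp

/-!
# `B` at `p = 3` (helper573)

The generators `t1, …, t8` of the Baby Monster generate a subgroup isomorphic to the symmetric group of degree 9.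
-/

set_option autoImplicit false
set_option maxRecDepth 100000

namespace Cfsg.Agent.H573.Spor.BThree

open Subgroup Cfsg.Spor Cfsg.Spor.BabyMonster

/-- the path -/
def tn : ℕ → Gen
  | 0 => .t1 | 1 => .t2 | 2 => .t3 | 3 => .t4 | 4 => .t5 | 5 => .t6 | 6 => .t7 | _ => .t8

/-- the generators of the path -/
noncomputable def s (i : ℕ) : Spor.BabyMonster := PresentedGroup.of (tn i)

theorem lab_braid : ∀ i < 7, coxLabel edges (tn i) (tn (i + 1)) = 3 := by decide

theorem lab_comm : ∀ i < 8, ∀ j < 8, i + 1 < j → coxLabel edges (tn i) (tn j) = 2 := by decide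

theorem rel : Cfsg.Agent.H346.CoxA.Rel 8 s where
  sq i _ := Cfsg.Agent.BM.Psi.rel_of.sq (tn i)
  braid i hi := Cfsg.Agent.BM.Psi.rel_of.braid (lab_braid i (by omega))
  comm i j hij hj := Cfsg.Agent.BM.Psi.rel_of.comm (lab_comm i (by omega) j hj hij)

theorem lab_one (t : Gen) (h1 : t ≠ .t1) (h2 : t ≠ .t2) : coxLabel edges .t1 t = 2 := by
  cases t <;> first | rfl | exact absurd rfl h1 | exact absurd rfl h2

/-- `t1 ≠ t2` -/
theorem s_ne : s 0 ≠ s 1 := by
  intro h
  have hc : centralizer ({s 0} : Set Spor.BabyMonster) = ⊤ := by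
    rw [eq_top_iff, ← PresentedGroup.closure_range_of, closure_le]
    rintro _ ⟨t, rfl⟩
    rw [SetLike.mem_coe, mem_centralizer_singleton_iff]
    by_cases h1 : t = .t1
    · subst h1; rfl
    by_cases h2 : t = .t2
    · subst h2
      show s 1 * s 0 = s 0 * s 1
      rw [h]
    · exact (Cfsg.Agent.BM.Psi.rel_of.comm (lab_one t h1 h2)).symm
  have h1 := Cfsg.Agent.BM.KHAll.index_cent .t1
  have h2 : (centralizer ({s 0} : Set Spor.BabyMonster)).index = 13571955000 := h1
  rw [hc, index_top] at h2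
  omega

theorem normP : NormP 3 Spor.BabyMonster := by
  obtain ⟨f, hf⟩ := Cfsg.Agent.H346.CoxA.exists_hom 8 s rel
  have hs : IsSimpleGroup (alternatingGroup (Fin 9)) := alternatingGroup.isSimpleGroup (by simp)
  let φ : alternatingGroup (Fin 9) →* Spor.BabyMonster := f.comp (alternatingGroup (Fin 9)).subtype
  refine (normP_perm 9 le_rfl).map φ ?_
  rw [← MonoidHom.ker_eq_bot_iff]
  refine (MonoidHom.normal_ker φ).eq_bot_or_eq_top.resolve_right fun h => s_ne ?_
  have h0 : f (Equiv.swap 0 1) = s 0 := hf 0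
  have h1 : f (Equiv.swap 1 2) = s 1 := hf 1
  have hm : Equiv.swap (0 : Fin 9) 1 * Equiv.swap 1 2 ∈ alternatingGroup (Fin 9) := by
    rw [Equiv.Perm.mem_alternatingGroup]; decide
  have h2 : φ ⟨_, hm⟩ = 1 := by
    rw [← MonoidHom.mem_ker, h]; exact mem_top _
  have h3 : s 0 * s 1 = 1 := by
    rw [← h0, ← h1, ← map_mul]; exact h2
  have h4 : s 1 * s 1 = 1 := rel.sq 1 (by norm_num)
  exact mul_right_cancel (h3.trans h4.symm)

end Cfsg.Agent.H573.Spor.BThree

namespace Cfsg.Agent.H573.Spor

theorem b_3 {G : Type*} [Group G] (h : Cfsg.Spor.IsoB G) : ¬ PCent 3 G := by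
  obtain ⟨e⟩ := h
  have : Finite Cfsg.Spor.BabyMonster :=
    Nat.finite_of_card_ne_zero (by rw [Cfsg.Agent.BM.KHAll.card_B]; norm_num)
  have : Finite G := Finite.of_equiv _ e.symm.toEquiv
  have h3 : Fact (Nat.Prime 3) := ⟨by norm_num⟩
  exact fun hc => BThree.normP.not_pcent (hc.congr e)

end Cfsg.Agent.H573.Spor
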