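import Cfsg.Agent.H573.Spor.Norm_m3
import Cfsg.Agent.LThreeCo1.Ev
import Cfsg.Agent.MFive.FixN
import Cfsg.Agent.CoOneType.CoAp
import Cfsg.Agent.CoOneType.CoQ
import Cfsg.Agent.CoOneType.CoQZ
import Cfsg.Agent.CoOneType.CoW
import Cfsg.Agent.LThreeMB.SpanQ
import Cfsg.Agent.Prune
set_option linter.all false

-- part: H573/Spor/Co0
section
prune_inst 0x7f00000000000000000000000000000000000000000000000000000000000000000000000000000000000000000000000000000000000000000000000000000000000000000000000000000000000000003fffffffffffffffffffffffffffbeffbdffffffff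
set_option linter.all false
open scoped Cfsg.Agent.FastGrp

/-!
# `PCent` for subgroups of `Co0` (helper573)

`main` : a subgroup `X` of `Co₀` of order divisible by `p ^ 3` and not by `p ^ 4` containing elements `a`, `b`, `c` of order
`p` with `a b = b a c`, `c` commuting with `a`, `b`, and such that `a`, `c` have different numbers of fixed points on
`Λ / 2Λ` is not `PCent p`.
-/

set_option autoImplicit false

namespace Cfsg.Agent.H573.Spor.Co0

open Subgroup Cfsg Cfsg.Agent.SporadicA Cfsg.Agent.SporadicStructure.Co0Matrix Cfsg.Agent.CoOneType.CoEval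
open Cfsg.Agent.MonsterU.Lam2
open Cfsg.Agent.LThreeMB (fr fr_conj)
open Cfsg.Spor (Co1)

theorem stab_of_ap {g : Co0} {R : List (List ℤ)} (hR : _root_.Cfsg.Agent.CoOneType.CoEval.Rep g R) {v : leechLattice} {l : List ℤ} (hl : l.length ≤ 24)
    (hv : (v : GolayPt → ℤ) = vec l) (h : eqL (ap R l) l = true) : g.1 v = v :=
  Subtype.ext (by rw [hR.apply hl hv, eqL_eq h, hv])

def lU : List ℤ := [4, 0, 0, 0, 0, 0, 0, 0, 0, 0, 0, 0, 0, 0, 0, 0, 0, 0, 0, 0, 0, 0, 0, 4]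
def lU' : List ℤ := [-4, 0, 0, 0, 0, 0, 0, 0, 0, 0, 0, 0, 0, 0, 0, 0, 0, 0, 0, 0, 0, 0, 0, 4]
def lV : List ℤ := [-1, -1, -1, -1, -1, -1, -1, -1, -1, -1, -1, -1, -1, -1, -1, -1, -1, -1, -1, -1, -1, -1, -1, -5]

theorem vU : ((Spor.leechU : leechLattice) : GolayPt → ℤ) = vec lU := by
  have h : ∀ p, Spor.vecU p = vec lU p := by decide +kernel
  funext p; exact h p
theorem vU' : ((Spor.leechU' : leechLattice) : GolayPt → ℤ) = vec lU' := by
  have h : ∀ p, Spor.vecU' p = vec lU' p := by decide +kernel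
  funext p; exact h p
theorem vV : ((Spor.leechV : leechLattice) : GolayPt → ℤ) = vec lV := by
  have h : ∀ p, Spor.vecV p = vec lV p := by decide +kernel
  funext p; exact h p

theorem mem_Co2 {g : Co0} {R : List (List ℤ)} (hR : _root_.Cfsg.Agent.CoOneType.CoEval.Rep g R) (hu : eqL (ap R lU) lU = true) : g.1 ∈ Spor.Co2 :=
  ⟨g.2, MulAction.mem_stabilizer_iff.2 (stab_of_ap hR (by decide) vU hu)⟩

theorem mem_Co3 {g : Co0} {R : List (List ℤ)} (hR : _root_.Cfsg.Agent.CoOneType.CoEval.Rep g R) (hv : eqL (ap R lV) lV = true) : g.1 ∈ Spor.Co3 :=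
  ⟨g.2, MulAction.mem_stabilizer_iff.2 (stab_of_ap hR (by decide) vV hv)⟩

theorem mem_McL {g : Co0} {R : List (List ℤ)} (hR : _root_.Cfsg.Agent.CoOneType.CoEval.Rep g R) (hv : eqL (ap R lV) lV = true)
    (hu : eqL (ap R lU) lU = true) : g.1 ∈ Spor.McL :=
  ⟨mem_Co3 hR hv, MulAction.mem_stabilizer_iff.2 (stab_of_ap hR (by decide) vU hu)⟩

theorem mem_HS {g : Co0} {R : List (List ℤ)} (hR : _root_.Cfsg.Agent.CoOneType.CoEval.Rep g R) (hv : eqL (ap R lV) lV = true)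
    (hu : eqL (ap R lU') lU' = true) : g.1 ∈ Spor.HS :=
  ⟨mem_Co3 hR hv, MulAction.mem_stabilizer_iff.2 (stab_of_ap hR (by decide) vU' hu)⟩

theorem fr_eq_of_conj {s t u : Co1} {k : ℕ} {m : ℤ} (h : u * s * u⁻¹ = t ^ k) (hm : (t ^ k) ^ m = t) : fr s = fr t := by
  rw [← fr_conj u s, h]
  apply Nat.card_congr
  refine Equiv.subtypeEquivRight fun v => ?_
  constructor
  · intro hv
    have h1 : t ^ k ∈ MulAction.stabilizer Co1 v := hv
    have h2 := zpow_mem h1 m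
    rw [hm] at h2
    exact h2
  · intro hv
    exact pow_mem (show t ∈ MulAction.stabilizer Co1 v from hv) k

/-- the class of an element of `Co₀` in `Co₁` -/
def toCo1 (X : Subgroup (Equiv.Perm leechLattice)) (hX : X ≤ Co0) : X →* Co1 :=
  (QuotientGroup.mk' (center Co0)).comp (Subgroup.inclusion hX)

theorem main {p : ℕ} [Fact p.Prime] (X : Subgroup (Equiv.Perm leechLattice)) (hX : X ≤ Co0) (h3 : p ^ 3 ∣ Nat.card X)
    (h4 : ¬ p ^ 4 ∣ Nat.card X) {a b c : Co0} (ha : a.1 ∈ X) (hb : b.1 ∈ X) (hc : c.1 ∈ X) (ha1 : a ^ p = 1) (ha2 : a ≠ 1)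
    (hb1 : b ^ p = 1) (hc1 : c ^ p = 1) (hc2 : c ≠ 1) (hac : a * c = c * a) (hbc : b * c = c * b) (hab : a * b = b * a * c)
    (hfr : fr (QuotientGroup.mk a : Co1) ≠ fr (QuotientGroup.mk c : Co1)) : ¬ PCent p X := by
  have hp : p.Prime := Fact.out
  have hfin : Finite X := by
    refine Nat.finite_of_card_ne_zero fun h => ?_
    rw [h] at h4
    exact h4 (dvd_zero _)
  intro h
  let P : Sylow p X := default
  have hP : Nat.card (P : Subgroup X) = p ^ 3 := card_sylow_of P h3 h4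
  have ca : ∀ {g : Co0} (_ : g ^ p = 1) (hg : g.1 ∈ X), (⟨g.1, hg⟩ : X) ^ p = 1 := fun {g} h hg =>
    Subtype.ext (show g.1 ^ p = 1 from congrArg Subtype.val h)
  have cn : ∀ {g : Co0} (_ : g ≠ 1) (hg : g.1 ∈ X), (⟨g.1, hg⟩ : X) ≠ 1 := fun {g} h hg h' =>
    h (Subtype.ext (show g.1 = 1 from congrArg Subtype.val h'))
  have hna : ¬ IsMulCommutative (P : Subgroup X) := by
    refine not_comm_of_class_two (a := ⟨a.1, ha⟩) (b := ⟨b.1, hb⟩) (c := ⟨c.1, hc⟩) (i := 1) (j := 1) (k := 1)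
      (by rw [pow_one]; exact ca ha1 ha) (by rw [pow_one]; exact ca hb1 hb) (by rw [pow_one]; exact ca hc1 hc)
      (Subtype.ext (show a.1 * c.1 = c.1 * a.1 from congrArg Subtype.val hac))
      (Subtype.ext (show b.1 * c.1 = c.1 * b.1 from congrArg Subtype.val hbc))
      (Subtype.ext (show a.1 * b.1 = b.1 * a.1 * c.1 from congrArg Subtype.val hab)) ?_ P
    intro h'
    have h1 : a * b = b * a := Subtype.ext (show a.1 * b.1 = b.1 * a.1 from congrArg Subtype.val h')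
    rw [hab] at h1
    exact hc2 (mul_eq_left.1 h1)
  have oa : orderOf (⟨a.1, ha⟩ : X) = p := orderOf_eq_prime (ca ha1 ha) (cn ha2 ha)
  have oc : orderOf (⟨c.1, hc⟩ : X) = p := orderOf_eq_prime (ca hc1 hc) (cn hc2 hc)
  obtain ⟨g, k, hg⟩ := h.conj_cube P hP hna oa oc
  have hk : orderOf ((⟨c.1, hc⟩ : X) ^ k) = p := by
    rw [← hg, ← oa]
    have := orderOf_injective (MulAut.conj g).toMonoidHom (MulAut.conj g).injective (⟨a.1, ha⟩ : X)
    simpa only [MulAut.conj_apply, _root_.Subgroup.orderOf_mk, _root_.orderOf_submonoid, _root_.MulEquiv.toMonoidHom_eq_coe, _root_.MonoidHom.coe_coe] using this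
  have hz : zpowers ((⟨c.1, hc⟩ : X) ^ k) = zpowers (⟨c.1, hc⟩ : X) := by
    apply Subgroup.eq_of_le_of_card_ge
    · rw [zpowers_le]; exact pow_mem (mem_zpowers _) k
    · rw [Nat.card_zpowers, Nat.card_zpowers, hk, oc]
  have hm : (⟨c.1, hc⟩ : X) ∈ zpowers ((⟨c.1, hc⟩ : X) ^ k) := by rw [hz]; exact mem_zpowers _
  obtain ⟨m, hm⟩ := mem_zpowers_iff.1 hm
  apply hfr
  have e1 : toCo1 X hX ⟨a.1, ha⟩ = (QuotientGroup.mk a : Co1) := rfl
  have e2 : toCo1 X hX ⟨c.1, hc⟩ = (QuotientGroup.mk c : Co1) := rfl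
  rw [← e1, ← e2]
  refine fr_eq_of_conj (u := toCo1 X hX g) (k := k) (m := m) ?_ ?_
  · rw [← map_inv, ← map_mul, ← map_mul, hg, map_pow]
  · rw [← map_pow, ← map_zpow, hm]

end Cfsg.Agent.H573.Spor.Co0
end

-- part: H573/Spor/HSFive
section
set_option linter.all false
open scoped Cfsg.Agent.FastGrp

private theorem Cfsg.Agent.Co0A_H573_Spor_HSFive.spanN {n : ℕ} {R : List (List ℤ)} {vw : List (List ℤ × List ℤ)} (h : Cfsg.Agent.LThreeMB.SpanQ.spq n R vw = true) :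
    Cfsg.Agent.MFive.FixN.spanB (n + 1) R vw = true := by
  have e : ∀ (k : ℕ) (l : List ℤ), Cfsg.Agent.MFive.FixN.trn R k l = Cfsg.Agent.LThreeMB.SpanQ.tn R k l := fun k => by
    induction k with
    | zero => exact fun _ => rfl
    | succ k ih => exact fun l => congrArg (Cfsg.Agent.LThreeMB.Fix.addL l) (ih _)
  exact (congrArg (fun f => Cfsg.Agent.SporadicStructure.Co0Matrix.gens.all f) (funext fun g =>
    congrArg (fun x => Cfsg.Agent.LThreeMB.Fix.halfB (Cfsg.Agent.LThreeMB.Fix.res x vw)) (e _ g))).trans (Cfsg.Agent.LThreeMB.SpanQ.spq_spec h)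

/-!
# Elements of order 5 of `HS` (helper573)

`a`, `b` generate an extraspecial group of order 125 with centre `⟨c⟩`; `a` has fixed rank 8, `c` has fixed rank 4.

Generated by a script; checked by the kernel.
-/

set_option autoImplicit false
set_option maxRecDepth 100000

namespace Cfsg.Agent.H573.Spor.HSFive

open Subgroup Cfsg Cfsg.Agent.SporadicA Cfsg.Agent.SporadicStructure.Co0Matrix Cfsg.Agent.CoOneType.CoEval
open Cfsg.Agent.LThreeCo1.Ev Cfsg.Agent.LThreeMB.Fix Cfsg.Agent.MFive.FixN Cfsg.Agent.H573.Spor.Co0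
open Cfsg.Agent.LThreeMB (fr)
open Cfsg.Spor (Co1)

def nA : ℕ := 0xb4210942108425084a50942128420e849d283a4e74a1294212849d093a5083a4e83a5294a1294212839d0949d09421074210841d083ad07420e842129421074210842d0839d07420e84212839ce84a5293a127421284a5093a50839d284a5274a0e9421284a50749d0849d284a5293a0e9420e839d094a5084a5283a5294a0e7420e84a50939d0849ce849ce94a129420e84a50949d09421074210841d0839d0b420e84212849d2839d294a127421283a5074a5083a52849d274a129420e83a5093a5084a4e849d274a0e74212849d094a5084a52849d293a1294212849d0739d094210b4210841d0839d07420e8421284a5284a4e73a127421283a50949d083a5284a4e94a127420e849d074a509421074210841d0839d0742168421284a4e84a4e94a0e9421283a5073a5083a52839ce93a0e9421284a5094a509421074210841d0859d07420e8421284a4e83a5273a129420e84a5074a5074210942108425084a509421284216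
def nB : ℕ := 0xb4a108421094a5084a10842508420e93a108421073ad083a10841d08421293a1084210b39d083a10841d0842128425293a528420e7424e94a12939d0841d294a4e8420e7425274a0e94a5093a1084210739d083a10842d0842128424e94a5284212741ce73a1294a50841d274a52842129425273a12939d08425273a4e842129424e93a0e94a5084252749ce84212741d294a1293a5093a1084210759d083a10841d084212841ce949ce842129424e94a12949d084252749d28420e9424e74a1274a50841d2939d2842127425293a1274a508424e939d2842129425274a0e93a5093a1084210739d085a10841d08421295a1084210739d083a10841d0842128424e74a52842127425294a0e749d0841d294a5284212941ce94a0e73a508424e94a4e8420e9425293a1273a5084252949d28420e941d293a0e949d08425293a4e84212941d274a12749d0841ce73a528420e941d294a1294a5074a108421094a5084a108425084216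
def nC : ℕ := 0xb42108421284a1084a129421084a0e942108420e83a1083a167421083a12839d2749d09425294250849ce9425083a4e93a509425294250839d2941d0942108420e83a1083a0e7421085a12849ce73a509424e941d084a529425083a4e949d0941d2941d084a527425083a5274a50941ce7425083a529425084a52739d0741d29425084a52941d0849d2939d0942527425083a5274250942108420e83a1085a0e7421083a12942108420e83a1083a0eb421083a12942108421683a1083a0e7421083a12849d294a50941d2741d0849d2941d084a52949d09424e941d083a4e941d083a5293a5074252741d084a4e9425084a4e949d07424e74250849d294250942108420e85a1083a0e7421083a1284a5274a5074252941d0839d274250849ce94a50741d29425083a4e9425084a5293a50941ce94250849ce7425084a4e74a50942527425084a4e741d0839d294a507424e9425084a52741d0742108421284a1084a129421084a16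

theorem okA : okN nA = true := by exact Cfsg.Agent.CoOneType.CoQ.okz_of (by decide +kernel)
theorem okB : okN nB = true := by exact Cfsg.Agent.CoOneType.CoQ.okz_of (by decide +kernel)
theorem okC : okN nC = true := by exact Cfsg.Agent.CoOneType.CoQ.okz_of (by decide +kernel)

def gA : Co0 := mk (ok_of_okN okA)
theorem repA : Rep gA (dec nA) := rep_mk _
def gB : Co0 := mk (ok_of_okN okB)
theorem repB : Rep gB (dec nB) := rep_mk _
def gC : Co0 := mk (ok_of_okN okC)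
theorem repC : Rep gC (dec nC) := rep_mk _

/-- the elements -/
def e : ℕ → Co0
  | 0 => gA
  | 1 => gB
  | _ => gC

/-- their matrices -/
def Ms : ℕ → List (List ℤ)
  | 0 => dec nA
  | 1 => dec nB
  | _ => dec nC

theorem hM : ∀ i, Rep (e i) (Ms i)
  | 0 => repA
  | 1 => repB
  | _ + 2 => repC

theorem a_pow : gA ^ 5 = 1 := by
  have h := eq_of_eqB hM (w := [0, 0, 0, 0, 0]) (w' := []) (by (delta Cfsg.Agent.LThreeCo1.Ev.eqB; rewrite [Cfsg.Agent.CoOneType.CoW.of_eq Cfsg.Agent.LThreeCo1.Ev.foldZ_eq]; decide +kernel))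
  simpa [e, pow_succ, mul_assoc] using h
theorem b_pow : gB ^ 5 = 1 := by
  have h := eq_of_eqB hM (w := [1, 1, 1, 1, 1]) (w' := []) (by (delta Cfsg.Agent.LThreeCo1.Ev.eqB; rewrite [Cfsg.Agent.CoOneType.CoW.of_eq Cfsg.Agent.LThreeCo1.Ev.foldZ_eq]; decide +kernel))
  simpa [e, pow_succ, mul_assoc] using h
theorem c_pow : gC ^ 5 = 1 := by
  have h := eq_of_eqB hM (w := [2, 2, 2, 2, 2]) (w' := []) (by (delta Cfsg.Agent.LThreeCo1.Ev.eqB; rewrite [Cfsg.Agent.CoOneType.CoW.of_eq Cfsg.Agent.LThreeCo1.Ev.foldZ_eq]; decide +kernel))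
  simpa [e, pow_succ, mul_assoc] using h
theorem a_ne : gA ≠ 1 := by
  have h := ne_of_neB' hM (w := [0]) (w' := []) (by (delta Cfsg.Agent.LThreeCo1.Ev.neB'; rewrite [Cfsg.Agent.CoOneType.CoW.of_eq Cfsg.Agent.LThreeCo1.Ev.foldZ_eq]; decide +kernel))
  simpa [e, pow_succ, mul_assoc] using h
theorem c_ne : gC ≠ 1 := by
  have h := ne_of_neB' hM (w := [2]) (w' := []) (by (delta Cfsg.Agent.LThreeCo1.Ev.neB'; rewrite [Cfsg.Agent.CoOneType.CoW.of_eq Cfsg.Agent.LThreeCo1.Ev.foldZ_eq]; decide +kernel))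
  simpa [e, pow_succ, mul_assoc] using h
theorem ac : gA * gC = gC * gA := by
  have h := eq_of_eqB hM (w := [0, 2]) (w' := [2, 0]) (by (delta Cfsg.Agent.LThreeCo1.Ev.eqB; rewrite [Cfsg.Agent.CoOneType.CoW.of_eq Cfsg.Agent.LThreeCo1.Ev.foldZ_eq]; decide +kernel))
  simpa [e, pow_succ, mul_assoc] using h
theorem bc : gB * gC = gC * gB := by
  have h := eq_of_eqB hM (w := [1, 2]) (w' := [2, 1]) (by (delta Cfsg.Agent.LThreeCo1.Ev.eqB; rewrite [Cfsg.Agent.CoOneType.CoW.of_eq Cfsg.Agent.LThreeCo1.Ev.foldZ_eq]; decide +kernel))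
  simpa [e, pow_succ, mul_assoc] using h
theorem ab : gA * gB = gB * gA * gC := by
  have h := eq_of_eqB hM (w := [0, 1]) (w' := [1, 0, 2]) (by (delta Cfsg.Agent.LThreeCo1.Ev.eqB; rewrite [Cfsg.Agent.CoOneType.CoW.of_eq Cfsg.Agent.LThreeCo1.Ev.foldZ_eq]; decide +kernel))
  simpa [e, pow_succ, mul_assoc] using h

/-- fixed vectors and dual vectors -/
def vwA : List (List ℤ × List ℤ) := [
  ([7, -1, -1, -1, -1, -1, -1, -1, -1, -1, -1, -1, -1, -1, -1, -1, -1, -1, -1, -1, -1, -1, -1, -13],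
   [0, 0, 2, 2, 2, 0, 0, 4, 4, 6, 4, 2, 2, 4, -2, 0, 6, 0, -4, 2, 2, -2, -4, 18]),
  ([5, -1, 1, 5, -1, -1, -1, -3, -3, -1, 1, 3, -3, -3, 1, 3, 1, -3, -3, -3, -1, 5, -3, -15],
   [0, 0, 0, 0, 0, -2, -2, 4, 2, 6, 2, 0, 2, 4, -4, -2, 6, 0, -6, 2, 0, -2, -4, 18]),
  ([5, 3, -1, -3, -1, -1, 1, -3, -3, 1, -1, 1, 5, -3, 3, -1, -1, -3, -3, -3, 1, -3, 5, -15],
   [0, 0, 2, 4, 4, 4, 2, 6, 0, 6, 2, 4, 2, 2, 0, 4, 4, 0, -2, 6, 0, 2, -2, 6]),
  ([5, 3, 5, 1, -3, -3, 3, -3, -3, -3, 5, -1, -1, -3, 1, -1, 1, -1, -1, -3, -3, 1, -1, -15],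
   [1, 3, 3, 5, 7, 5, 5, 7, 7, 7, 7, 3, 7, 7, 1, 1, 9, 5, -1, 3, 5, 1, 1, 9]),
  ([5, -1, -3, -1, -3, -3, 1, -3, -3, 5, -3, 1, 1, -3, -1, 3, 3, -1, -1, -3, 5, -1, 1, -15],
   [0, 2, 4, 4, 4, 2, 2, 2, 6, 4, 6, 2, 2, 4, 2, 0, 4, 2, 0, 0, 4, -2, -2, 12]),
  ([5, 1, -1, -3, 1, 1, 3, -3, -3, -1, -1, -1, -3, -3, -1, 1, 3, 5, 5, -3, -1, -3, -3, -15],
   [0, 0, 0, 2, 2, 0, 2, 0, 0, 2, -2, 0, 2, 0, -2, 0, 2, -2, 0, 0, -2, 0, -2, 6]),
  ([13, 5, 3, 3, 3, 3, 5, -1, -1, 3, 3, 5, 3, -1, 5, 5, 5, 3, 3, -1, 3, 3, 3, -7],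
   [1, 3, 5, 5, 7, 5, 5, 5, 9, 5, 9, 3, 5, 7, 3, 1, 7, 5, 1, 1, 7, -1, 1, 9]),
  ([14, 8, 4, 4, 6, 6, 2, 2, 2, 2, 4, 8, 6, 2, 6, 2, 4, 2, 2, 2, 2, 4, 6, 4],
   [0, 0, 2, 4, 6, 4, 4, 6, 2, 6, 2, 2, 4, 4, -2, 2, 6, 0, -2, 4, 0, 0, -2, 12])]

theorem frA : fr (QuotientGroup.mk gA : Co1) = 2 ^ 8 :=
  Cfsg.Agent.MFive.FixN.card_fix (n := 5) (by decide) repA (vw := vwA) (by decide +kernel) (by (delta Cfsg.Agent.LThreeMB.Fix.fixB; rewrite [Cfsg.Agent.CoOneType.CoAp.ap_F]; decide +kernel)) (by (delta Cfsg.Agent.LThreeMB.Fix.dualB; rewrite [Cfsg.Agent.CoOneType.CoQ.dotL_F]; decide +kernel)) (by exact Cfsg.Agent.Co0A_H573_Spor_HSFive.spanN (n := 4) (by decide +kernel))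

/-- fixed vectors and dual vectors -/
def vwC : List (List ℤ × List ℤ) := [
  ([7, -1, -1, -1, -1, -1, -1, -1, -1, -1, -1, -1, -1, -1, -1, -1, -1, -1, -1, -1, -1, -1, -1, -13],
   [1, 1, 1, 1, 1, 1, 1, 1, 1, 1, 1, 1, 1, 1, 1, 1, 1, 1, 1, 1, 1, 1, 1, -3]),
  ([6, -2, -2, 2, -2, -2, -2, -2, -2, 2, -2, 2, -2, -2, -2, 2, 2, -2, -2, -2, 2, 2, -2, -14],
   [1, 1, 1, 1, 1, -1, 1, -1, 1, 1, -1, -1, 1, 1, -1, -1, 1, -1, 1, -1, -1, -1, -1, 3]),
  ([15, 3, 1, 3, 3, 3, 1, 1, 1, 3, 1, 5, 1, 1, 1, 3, 5, 3, 3, 1, 3, 3, 1, -5],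
   [0, 2, 4, 4, 4, 4, 2, 2, 2, 2, 4, 2, 0, 2, 4, 2, 0, 2, 2, 2, 2, 0, 0, 0]),
  ([15, 5, 3, 3, 5, 5, 3, 3, 3, 3, 3, 5, 3, 3, 3, 3, 5, 5, 5, 3, 3, 3, 3, 5],
   [1, 3, 3, 3, 3, 3, 1, 3, 1, 3, 3, 1, 1, 3, 3, 1, 1, 3, 1, 3, 1, 1, 1, -3])]

theorem frC : fr (QuotientGroup.mk gC : Co1) = 2 ^ 4 :=
  Cfsg.Agent.MFive.FixN.card_fix (n := 5) (by decide) repC (vw := vwC) (by decide +kernel) (by (delta Cfsg.Agent.LThreeMB.Fix.fixB; rewrite [Cfsg.Agent.CoOneType.CoAp.ap_F]; decide +kernel)) (by (delta Cfsg.Agent.LThreeMB.Fix.dualB; rewrite [Cfsg.Agent.CoOneType.CoQ.dotL_F]; decide +kernel)) (by exact Cfsg.Agent.Co0A_H573_Spor_HSFive.spanN (n := 4) (by decide +kernel))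

theorem fr_ne : fr (QuotientGroup.mk gA : Co1) ≠ fr (QuotientGroup.mk gC : Co1) := by
  rw [frA, frC]; norm_num

theorem memA : gA.1 ∈ Spor.HS := mem_HS repA (by (rewrite [Cfsg.Agent.CoOneType.CoAp.ap_F]; decide +kernel)) (by (rewrite [Cfsg.Agent.CoOneType.CoAp.ap_F]; decide +kernel))
theorem memB : gB.1 ∈ Spor.HS := mem_HS repB (by (rewrite [Cfsg.Agent.CoOneType.CoAp.ap_F]; decide +kernel)) (by (rewrite [Cfsg.Agent.CoOneType.CoAp.ap_F]; decide +kernel))
theorem memC : gC.1 ∈ Spor.HS := mem_HS repC (by (rewrite [Cfsg.Agent.CoOneType.CoAp.ap_F]; decide +kernel)) (by (rewrite [Cfsg.Agent.CoOneType.CoAp.ap_F]; decide +kernel))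

theorem main (h3 : 5 ^ 3 ∣ Nat.card Spor.HS) (h4 : ¬ 5 ^ 4 ∣ Nat.card Spor.HS) : ¬ PCent 5 Spor.HS :=
  have : Fact (Nat.Prime 5) := ⟨by norm_num⟩
  Co0.main Spor.HS (fun _ h => h.1.1) h3 h4 memA memB memC a_pow a_ne b_pow c_pow c_ne ac bc ab fr_ne

end Cfsg.Agent.H573.Spor.HSFive

private theorem dce_873d2fcd1354 : _root_.True := by
  try have : _root_.True := by simp only [_root_.Cfsg.Agent.H573.Spor.HSFive.e.eq_1]
  try have : _root_.True := by simp only [_root_.Cfsg.Agent.H573.Spor.HSFive.e.eq_2]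
  try have : _root_.True := by simp only [_root_.Cfsg.Agent.H573.Spor.HSFive.e.eq_3]
  exact _root_.True.intro
end

-- part: H604/Sax/McLEl
section
prune_inst 0x7f00000000000000000000000000000000000000000000000000000000000000000000000000000000000000000000000000000000000000000000000000000000000000000000000000000000000000003fffffffffffffffffffffffffffbeffbdffffffff
set_option linter.all false
open scoped Cfsg.Agent.FastGrp

/-!
# Elements of orders 9 and 30 of `McL` (helper604)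

`gN` of order 9, `gT` of order 30; both are in `McL`, so in `Co2` and `Co3`.
-/

set_option autoImplicit false
set_option maxRecDepth 100000

namespace Cfsg.Agent.H604.Sax.McLEl

open Cfsg Cfsg.Agent.SporadicA Cfsg.Agent.SporadicStructure.Co0Matrix Cfsg.Agent.CoOneType.CoEval
open Cfsg.Agent.LThreeCo1.Ev Cfsg.Agent.H573.Spor.Co0

/-- matrix code -/
def nN : ℕ := 0xac6318be2f8c62f7c6718bdf18c6338c6316bdb38c62f9c5f18bdf18b62f8b6318ce2f6c62f9c5f18bded8c62f7bdf37c5f19bdf18ce2f7c62f7ce717cdef9c5f17cdf18be337c62f7be717be6f7c5f17bdf18be337c6339cdf18c6318bdaf8c6337c5f18cded8c5af8c62d8be2f8c62f9c5ed6cdf18c62f7be6f7c6719cdf18be2f9c62f7bdf18c6318ce338c62f7c5f16bdf16c5af8c6316be2f6c62f7c5f18ce716c62f8c5ad6ce2f8c6337c5f18bdf18c62f7bdef9c5f17be718ce2f9c6337bdf18c5b18be2f8c5af9c5f18be718c5af8c6318be2f8b6339b5f18bdf16c62f8c6318cdaf8c62f7b5ed8be718c62f8b5b18be338c62f7b5f18cdf18c62f9bdef7c5f17bdf18beaf7c62f7bded8c6318ce2f8b5af7c5f18cdf18b62f8c6318be336c5b37c5ed8bdf18c62f8c62d8be338b62f7c5f18be6d8c62f7cdf37c6717be718be2f7c62f9bdf18b6318be2f8c6337c5f16be718b62f9bdef7c5f17bdf18bdaf7c62f7bdf5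

/-- matrix code -/
def nT : ℕ := 0xa4210942109425084a5284250842548429094210941d0a49d2841d0841d0939ce849d284a0e9421073a1294a0e949d283a5283a0e9421074a1273a0e8421474210941d084a4e841d085250842107421074250849d2851d0a42508421094210941d083a4e85250a41d0842109529094250839ce841d0842508421094214741d4849ce8425084250842907421074250a3a4e842508425084210742149425483a52841d0841d08421075290741d084a5284250841d0949d2849ce83a129421093a0e93a0e8421074210941d0839d2a4254842508521094210751d083a52841d084250852107421095250849ce84250841d094a4e849ce83a127421074a1274a0e94a4e83a5283a0e7421093a0e94a0e84210942107425084a4ea41d4841d093a52849d284a0e7421094a0e73a0e93a5283a4e84a127421073a1293a0e939ce83a4e84a129421094a0e74a0e842149421074250839d284250851d0a421074210741d0839ce841d0841d4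

theorem okNN : okN nN = true := by exact Cfsg.Agent.CoOneType.CoQ.okz_of (by decide +kernel)
theorem okT : okN nT = true := by exact Cfsg.Agent.CoOneType.CoQ.okz_of (by decide +kernel)

/-- of order 9 -/
def gN : Co0 := mk (ok_of_okN okNN)
theorem repN : _root_.Cfsg.Agent.CoOneType.CoEval.Rep gN (dec nN) := rep_mk _

/-- of order 30 -/
def gT : Co0 := mk (ok_of_okN okT)
theorem repT : _root_.Cfsg.Agent.CoOneType.CoEval.Rep gT (dec nT) := rep_mk _

/-- the elements -/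
def e : ℕ → Co0
  | 0 => gN
  | _ => gT

/-- their matrices -/
def Ms : ℕ → List (List ℤ)
  | 0 => dec nN
  | _ => dec nT

theorem hM : ∀ i, _root_.Cfsg.Agent.CoOneType.CoEval.Rep (e i) (Ms i)
  | 0 => repN
  | _ + 1 => repT

theorem pow_zero_word (i k : ℕ) : ((List.replicate k i).map e).prod = e i ^ k := by
  rw [List.map_replicate, List.prod_replicate]

theorem n_pow : gN ^ 9 = 1 := by
  have h := eq_of_eqB hM (w := List.replicate 9 0) (w' := []) (by (delta Cfsg.Agent.LThreeCo1.Ev.eqB; rewrite [Cfsg.Agent.CoOneType.CoW.of_eq Cfsg.Agent.LThreeCo1.Ev.foldZ_eq]; decide +kernel))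
  rw [pow_zero_word] at h
  simpa only [e, _root_.List.map_nil, _root_.List.prod_nil] using h

theorem n_ne : gN ^ 3 ≠ 1 := by
  have h := ne_of_neB' hM (w := List.replicate 3 0) (w' := []) (by (delta Cfsg.Agent.LThreeCo1.Ev.neB'; rewrite [Cfsg.Agent.CoOneType.CoW.of_eq Cfsg.Agent.LThreeCo1.Ev.foldZ_eq]; decide +kernel))
  rw [pow_zero_word] at h
  simpa only [e, _root_.ne_eq, _root_.List.map_nil, _root_.List.prod_nil] using h

theorem t_pow : gT ^ 30 = 1 := by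
  have h := eq_of_eqB hM (w := List.replicate 30 1) (w' := []) (by (delta Cfsg.Agent.LThreeCo1.Ev.eqB; rewrite [Cfsg.Agent.CoOneType.CoW.of_eq Cfsg.Agent.LThreeCo1.Ev.foldZ_eq]; decide +kernel))
  rw [pow_zero_word] at h
  simpa only [e, _root_.List.map_nil, _root_.List.prod_nil] using h

theorem t_ne {k : ℕ} (hk : neB' Ms (List.replicate k 1) [] = true) : gT ^ k ≠ 1 := by
  have h := ne_of_neB' hM (w := List.replicate k 1) (w' := []) hk
  rw [pow_zero_word] at h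
  simpa only [e, _root_.ne_eq, _root_.List.map_nil, _root_.List.prod_nil] using h

theorem t_fifteen : gT ^ 15 ≠ 1 := t_ne (by (delta Cfsg.Agent.LThreeCo1.Ev.neB'; rewrite [Cfsg.Agent.CoOneType.CoW.of_eq Cfsg.Agent.LThreeCo1.Ev.foldZ_eq]; decide +kernel))
theorem t_ten : gT ^ 10 ≠ 1 := t_ne (by (delta Cfsg.Agent.LThreeCo1.Ev.neB'; rewrite [Cfsg.Agent.CoOneType.CoW.of_eq Cfsg.Agent.LThreeCo1.Ev.foldZ_eq]; decide +kernel))
theorem t_six : gT ^ 6 ≠ 1 := t_ne (by (delta Cfsg.Agent.LThreeCo1.Ev.neB'; rewrite [Cfsg.Agent.CoOneType.CoW.of_eq Cfsg.Agent.LThreeCo1.Ev.foldZ_eq]; decide +kernel))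

theorem orderOf_gN : orderOf gN = 9 := by
  have : Fact (Nat.Prime 3) := ⟨by norm_num⟩
  exact orderOf_eq_prime_pow (p := 3) (n := 1) (by simpa only [_root_.pow_one, _root_.ne_eq] using n_ne) (by simpa only [_root_.Nat.reduceAdd, _root_.Nat.reducePow] using n_pow)

theorem orderOf_gT : orderOf gT = 30 := by
  refine orderOf_eq_of_pow_and_pow_div_prime (by norm_num) t_pow fun p hp hd => ?_
  have h1 : p ∈ Nat.primeFactors 30 := Nat.mem_primeFactors.2 ⟨hp, hd, by norm_num⟩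
  have h2 : Nat.primeFactors 30 = {2, 3, 5} := by decide +kernel
  rw [h2] at h1
  simp only [Finset.mem_insert, Finset.mem_singleton] at h1
  rcases h1 with rfl | rfl | rfl
  · exact t_fifteen
  · exact t_ten
  · exact t_six

theorem memN : gN.1 ∈ Spor.McL := mem_McL repN (by (rewrite [Cfsg.Agent.CoOneType.CoAp.ap_F]; decide +kernel)) (by (rewrite [Cfsg.Agent.CoOneType.CoAp.ap_F]; decide +kernel))
theorem memT : gT.1 ∈ Spor.McL := mem_McL repT (by (rewrite [Cfsg.Agent.CoOneType.CoAp.ap_F]; decide +kernel)) (by (rewrite [Cfsg.Agent.CoOneType.CoAp.ap_F]; decide +kernel))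
theorem memN2 : gN.1 ∈ Spor.Co2 := mem_Co2 repN (by (rewrite [Cfsg.Agent.CoOneType.CoAp.ap_F]; decide +kernel))
theorem memN3 : gN.1 ∈ Spor.Co3 := mem_Co3 repN (by (rewrite [Cfsg.Agent.CoOneType.CoAp.ap_F]; decide +kernel))

theorem exists_nine_mcl : ∃ g : Spor.McL, orderOf g = 9 :=
  ⟨⟨gN.1, memN⟩, by rw [Subgroup.orderOf_mk, Subgroup.orderOf_coe, orderOf_gN]⟩

theorem exists_thirty_mcl : ∃ g : Spor.McL, orderOf g = 30 :=
  ⟨⟨gT.1, memT⟩, by rw [Subgroup.orderOf_mk, Subgroup.orderOf_coe, orderOf_gT]⟩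

theorem exists_nine_co2 : ∃ g : Spor.Co2, orderOf g = 9 :=
  ⟨⟨gN.1, memN2⟩, by rw [Subgroup.orderOf_mk, Subgroup.orderOf_coe, orderOf_gN]⟩

theorem exists_nine_co3 : ∃ g : Spor.Co3, orderOf g = 9 :=
  ⟨⟨gN.1, memN3⟩, by rw [Subgroup.orderOf_mk, Subgroup.orderOf_coe, orderOf_gN]⟩

end Cfsg.Agent.H604.Sax.McLEl

private theorem dce_ec11a28d495f : _root_.True := by
  try have : _root_.True := by simp only [_root_.Cfsg.Agent.H604.Sax.McLEl.e.eq_1]
  try have : _root_.True := by simp only [_root_.Cfsg.Agent.H604.Sax.McLEl.e.eq_2]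
  exact _root_.True.intro
end
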