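import Cfsg.Agent.H573.Spor.McLFive
import Cfsg.Agent.H573.Spor.HSFive_m3
import Cfsg.Agent.Schreier.McLaughlin
import Cfsg.Agent.SporRec.Co3.Model
import Cfsg.Agent.Co2Type.CardCo2
import Cfsg.Agent.KFacts.HS.Base
import Cfsg.Agent.Prune
set_option linter.all false
prune_inst 0x7f00000000000000000000000000000000000000000000000000000000000000000000000000000000000000000000000000000000000000000000000000000000000000000000000000000000000000003fffffffffffffffffffffffffffbeffbdffffffff
open scoped Cfsg.Agent.FastGrp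

/-!
# `McL`, `HS`, `Co2`, `Co3` are not `PCent` for `p = 5` (helper573)
-/

set_option autoImplicit false

namespace Cfsg.Agent.H573.Spor

open Subgroup Cfsg

theorem card_McL : Nat.card Spor.McL = 898128000 := Cfsg.Agent.Schreier.McLaughlin.card_mcl

theorem card_Co3 : Nat.card Spor.Co3 = 495766656000 := by
  rw [Nat.card_congr Cfsg.Agent.SporRec.Co3.Model.equivCo3.symm.toEquiv, Cfsg.Agent.SporRec.Co3.Chain.isCo3_G3.2]

theorem card_HS : Nat.card Spor.HS = 44352000 := Cfsg.Agent.KFacts.HS.card ⟨MulEquiv.refl _⟩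

theorem mcl_five : ¬ PCent 5 Spor.McL :=
  McLFive.of_le Spor.McL (fun _ h => h.1.1) (fun _ h => h) (by rw [card_McL]; norm_num) (by rw [card_McL]; norm_num)

theorem co3_five : ¬ PCent 5 Spor.Co3 :=
  McLFive.of_le Spor.Co3 (fun _ h => h.1) (fun _ h => h.1) (by rw [card_Co3]; norm_num) (by rw [card_Co3]; norm_num)

theorem co2_five : ¬ PCent 5 Spor.Co2 :=
  McLFive.of_le Spor.Co2 (fun _ h => h.1) (fun _ h => McLFive.le_Co2 h)
    (by rw [Co2Type.CardCo2.card_co2]; norm_num) (by rw [Co2Type.CardCo2.card_co2]; norm_num)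

theorem hs_five : ¬ PCent 5 Spor.HS := HSFive.main (by rw [card_HS]; norm_num) (by rw [card_HS]; norm_num)

/-- transport of the rows -/
theorem of_iso {p : ℕ} (hp : p.Prime) {X : Type*} [Group X] (hX : Nat.card X ≠ 0) (h : ¬ PCent p X) {G : Type*} [Group G]
    (hG : Nonempty (G ≃* X)) : ¬ PCent p G := by
  obtain ⟨e⟩ := hG
  have : Fact p.Prime := ⟨hp⟩
  have : Finite X := Nat.finite_of_card_ne_zero hX
  have : Finite G := Finite.of_equiv _ e.symm.toEquiv
  exact fun hc => h (hc.congr e)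

theorem mcl_5 {G : Type*} [Group G] (h : Cfsg.Spor.IsoMcL G) : ¬ PCent 5 G :=
  of_iso (by norm_num) (by rw [card_McL]; norm_num) mcl_five h

theorem hs_5 {G : Type*} [Group G] (h : Cfsg.Spor.IsoHS G) : ¬ PCent 5 G :=
  of_iso (by norm_num) (by rw [card_HS]; norm_num) hs_five h

theorem co2_5 {G : Type*} [Group G] (h : Cfsg.Spor.IsoCo2 G) : ¬ PCent 5 G :=
  of_iso (by norm_num) (by rw [Co2Type.CardCo2.card_co2]; norm_num) co2_five h

theorem co3_5 {G : Type*} [Group G] (h : Cfsg.Spor.IsoCo3 G) : ¬ PCent 5 G :=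
  of_iso (by norm_num) (by rw [card_Co3]; norm_num) co3_five h

end Cfsg.Agent.H573.Spor
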