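import Cfsg.Agent.H573.Spor.Norm_m3
import Cfsg.Agent.J2.HundredGens
import Cfsg.Agent.S1619
import Cfsg.Agent.Prune
set_option linter.all false
open scoped Cfsg.Agent.FastGrp

/-!
# The Hall–Janko group is not `PCent` for `p = 3` (helper573)
-/

set_option autoImplicit false
set_option maxRecDepth 100000

namespace Cfsg.Agent.H573.Spor

open Subgroup Cfsg

namespace J2R

open Cfsg.Agent.J2.HundredGens Cfsg.Agent.SporadicA.J2Hundred

def A : List ℕ := [1, 0, 1, 2, 0, 1]
def B : List ℕ := [1, 2, 1, 0, 3, 2, 3]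
/-- `[A, B]` -/
def C : List ℕ := A ++ (A ++ (B ++ (B ++ (A ++ B))))

/-- the element of a word -/
noncomputable def el (L : List ℕ) : G := ⟨pw L, pw_mem L⟩

theorem el_eq {L M : List ℕ} (h : chk L M = true) : el L = el M := Subtype.ext (pw_eq h)

theorem el_mul (L M : List ℕ) : el L * el M = el (L ++ M) := Subtype.ext (pw_mul L M)

theorem el_nil : el [] = 1 := Subtype.ext pw_nil

theorem el_cube {L : List ℕ} (h : chk (L ++ (L ++ L)) [] = true) : el L ^ 3 = 1 := by
  rw [pow_succ', pow_two, el_mul, el_mul, el_eq h, el_nil]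

theorem el_ne {L M : List ℕ} (i : Fin 100) (h : Nat.beq (run L i) (run M i) = false) : el L ≠ el M := by
  intro he
  rw [← pw_val, ← pw_val, show pw L = pw M from congrArg Subtype.val he, Nat.beq_refl] at h
  exact absurd h (by decide)

theorem fix_card (L : List ℕ) : (Finset.univ.filter fun i : Fin 100 => G.subtype (el L) i = i).card =
    cntB 100 fun k => Nat.beq (run L k) k := card_fix _ _ fun i => (pw_val L i).symm

theorem c4 : (cntB 100 fun k => Nat.beq (run [1, 2] k) k) = 4 := by decide +kernel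
theorem c10 : (cntB 100 fun k => Nat.beq (run [3, 4] k) k) = 10 := by decide +kernel

theorem nonab (P : Sylow 3 G) : ¬ IsMulCommutative (P : Subgroup G) := by
  have : Fact (Nat.Prime 3) := ⟨by norm_num⟩
  refine not_comm_of_class_two (a := el A) (b := el B) (c := el C) (i := 1) (j := 1) (k := 1) ?_ ?_ ?_ ?_ ?_ ?_ ?_ P
  · exact el_cube (by decide +kernel)
  · exact el_cube (by decide +kernel)
  · exact el_cube (by decide +kernel)
  · rw [el_mul, el_mul]; exact el_eq (by decide +kernel)
  · rw [el_mul, el_mul]; exact el_eq (by decide +kernel)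
  · rw [el_mul, el_mul, el_mul]; exact el_eq (by decide +kernel)
  · rw [el_mul, el_mul]; exact el_ne 8 (by decide +kernel)

theorem three : ¬ PCent 3 G := by
  have : Fact (Nat.Prime 3) := ⟨by norm_num⟩
  intro h
  let P : Sylow 3 G := default
  have hP : Nat.card (P : Subgroup G) = 3 ^ 3 := card_sylow_of P (by rw [card_G]; norm_num) (by rw [card_G]; norm_num)
  have h1 := h.fix_eq P hP (nonab P) G.subtype (x := el [1, 2]) (y := el [3, 4])
    (orderOf_eq_prime (el_cube (by decide +kernel)) (by rw [← el_nil]; exact el_ne 0 (by decide +kernel)))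
    (orderOf_eq_prime (el_cube (by decide +kernel)) (by rw [← el_nil]; exact el_ne 0 (by decide +kernel)))
  rw [fix_card, fix_card, c4, c10] at h1
  exact absurd h1 (by norm_num)

end J2R

theorem j2_3 {G : Type*} [Group G] (h : Cfsg.Spor.IsoJ2 G) : ¬ PCent 3 G := by
  obtain ⟨e⟩ := h
  obtain ⟨f⟩ := Cfsg.Agent.J2.HundredGens.J2_iso Cfsg.Agent.S1619.result.2.2.2
  have : Fact (Nat.Prime 3) := ⟨by norm_num⟩
  have : Finite G := Finite.of_equiv _ (e.trans f).symm.toEquiv
  exact fun hc => J2R.three (hc.congr (e.trans f))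

end Cfsg.Agent.H573.Spor
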