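import Cfsg.Agent.H573.Spor.Norm_m3
import Cfsg.Agent.R04.ONThree
import Cfsg.Agent.KFacts.ON.Words_m3
import Cfsg.Agent.FastGrp
import Cfsg.Agent.Prune
set_option linter.all false
prune_inst 0x7f00000000000000000000000000000000000000000000000000000000000000000000000000000000000000000000000000000000000000000000000000000000000000000000000000000000000000003fffffffffffffffffffffffffffbeffbdffffffff
open scoped Cfsg.Agent.FastGrp

/-!
# `O'N` at `p = 3`: the Sylow subgroups are abelian (helper573)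
-/

set_option autoImplicit false

namespace Cfsg.Agent.H573.Spor

open Subgroup Cfsg.Agent.R04.ThreeAbs Cfsg.Agent.R04.ONThree

/-- an abelian subgroup of the order of the Sylow subgroups -/
theorem mulComm_of_sub {G : Type*} [Group G] [Finite G] {p : ℕ} [Fact p.Prime] {n : ℕ} (E : Subgroup G)
    (hE : Nat.card E = p ^ n) (h1 : ¬ p ^ (n + 1) ∣ Nat.card G) (hc : ∀ a ∈ E, ∀ b ∈ E, a * b = b * a)
    (P : Sylow p G) : IsMulCommutative (P : Subgroup G) := by
  have hd : p ^ n ∣ Nat.card G := hE ▸ card_subgroup_dvd_card E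
  have hP := card_sylow_of P hd h1
  obtain ⟨Q, hQ⟩ := (IsPGroup.of_card hE).exists_le_sylow
  have hQc := card_sylow_of Q hd h1
  have hQE : E = (Q : Subgroup G) := Subgroup.eq_of_le_of_card_ge hQ (by rw [hQc, hE])
  obtain ⟨g, hg⟩ := MulAction.exists_smul_eq G Q P
  have hmem : ∀ a ∈ (P : Subgroup G), g⁻¹ * a * g ∈ E := by
    intro a ha
    rw [← hg] at ha
    have := Subgroup.mem_pointwise_smul_iff_inv_smul_mem.1 ha
    rw [MulAut.smul_def, ← map_inv, MulAut.conj_apply, inv_inv] at this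
    rw [hQE]; exact this
  refine ⟨⟨fun a b => Subtype.ext ?_⟩⟩
  have h2 := hc _ (hmem a a.2) _ (hmem b b.2)
  show (a : G) * b = b * a
  calc (a : G) * b = g * ((g⁻¹ * a * g) * (g⁻¹ * b * g)) * g⁻¹ := by group
    _ = g * ((g⁻¹ * b * g) * (g⁻¹ * a * g)) * g⁻¹ := by rw [h2]
    _ = b * a := by group

theorem on_3 {G : Type*} [Group G] (h : Cfsg.Spor.IsoON G) (P : Sylow 3 G) : IsMulCommutative (P : Subgroup G) := by
  have : Fact (Nat.Prime 3) := ⟨Nat.prime_three⟩
  have hON : Cfsg.IsON Cfsg.Spor.ON := Cfsg.Agent.KFacts.ON.Cent.hON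
  have hs := hON.1
  have hfin : Finite Cfsg.Spor.ON := Nat.finite_of_card_ne_zero (by rw [hON.2]; norm_num)
  obtain ⟨e⟩ := h
  have hfG : Finite G := Finite.of_equiv _ e.symm.toEquiv
  have h1 : ∀ P : Sylow 3 Cfsg.Spor.ON, IsMulCommutative (P : Subgroup Cfsg.Spor.ON) := by
    refine mulComm_of_sub (n := 4) (data hs).E ?_ (by rw [hON.2]; norm_num) ?_
    · rw [(data hs).card_E ab_ne fe_ne a_ne f_ne (inv hs)]; norm_num
    · rintro _ ⟨i, j, k, l, rfl⟩ _ ⟨i', j', k', l', rfl⟩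
      rw [(data hs).el_mul, (data hs).el_mul, add_comm i, add_comm j, add_comm k, add_comm l]
  have h2 := h1 (P.mapSurjective (f := e.toMonoidHom) e.surjective)
  refine ⟨⟨fun a b => Subtype.ext (e.injective ?_)⟩⟩
  have h2 := h2.is_comm.comm ⟨e a, ⟨a, a.2, rfl⟩⟩ ⟨e b, ⟨b, b.2, rfl⟩⟩
  have h3 : e a * e b = e b * e a := congrArg Subtype.val h2
  show e ((a : G) * b) = e ((b : G) * a)
  rw [map_mul, map_mul, h3]

end Cfsg.Agent.H573.Spor
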