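import Cfsg.Agent.H573.Spor.CoOneFive
import Cfsg.Agent.CpAutBFive.Final
import Cfsg.Agent.Prune
set_option linter.all false
prune_inst 0x7f00000000000000000000000000000000000000000000000000000000000000000000000000000000000000000000000000000000000000000000000000000000000000000000000000000000000000003fffffffffffffffffffffffffffbeffbdffffffff
open scoped Cfsg.Agent.FastGrp

/-!
# Lifting elements of prime order; the Monster at `p = 5` (helper573)
-/

set_option autoImplicit false
set_option maxRecDepth 100000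

namespace Cfsg.Agent.H573.Spor

open Subgroup Cfsg

/-- lift an element of order `p` along a surjection whose kernel has order prime to `p` -/
theorem exists_lift_of_order {C S : Type*} [Group C] [Group S] [Finite C] (π : C →* S) (hπ : Function.Surjective π)
    {p : ℕ} (hp : p.Prime) (hk : ∀ c : C, π c = 1 → ¬ p ∣ orderOf c) {s : S} (hs : orderOf s = p) :
    ∃ x : C, orderOf x = p ∧ π x = s := by
  have : Fact p.Prime := ⟨hp⟩
  obtain ⟨c, rfl⟩ := hπ s
  have hpos : 0 < orderOf c := orderOf_pos c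
  -- `c ^ p` has order prime to `p`
  have h1 : ¬ p ∣ orderOf (c ^ p) := hk _ (by rw [map_pow, ← hs, pow_orderOf_eq_one])
  set m := orderOf (c ^ p) with hm
  have hcop : Nat.Coprime m p := (Nat.coprime_comm.1 ((Nat.Prime.coprime_iff_not_dvd hp).2 h1))
  obtain ⟨j, hj⟩ : ∃ j : ℕ, m * j % p = 1 % p := by
    obtain ⟨j, hj⟩ := Nat.exists_mul_mod_eq_one_of_coprime hcop hp.one_lt
    exact ⟨j, by rw [hj.2, Nat.mod_eq_of_lt hp.one_lt]⟩
  have h2 : (c ^ (m * j)) ^ p = 1 := by
    rw [← pow_mul, show m * j * p = p * (m * j) by ring, pow_mul, pow_mul, hm, pow_orderOf_eq_one, one_pow]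
  have h3 : π (c ^ (m * j)) = π c := by
    rw [map_pow, ← pow_mod_orderOf, hs, hj, ← hs, pow_mod_orderOf, pow_one]
  refine ⟨c ^ (m * j), orderOf_eq_prime h2 ?_, h3⟩
  intro h4
  rw [h4, map_one] at h3
  rw [← h3, orderOf_one] at hs
  exact hp.one_lt.ne hs

open Cfsg.Agent.LThreeMB (fr XX KChart.Cent KChart.pi KChart.chart)
open Cfsg.Agent.MonsterX Cfsg.Agent.MonsterX.Model Cfsg.Agent.MonsterX.MainSimple Cfsg.Agent.MonsterX.MainPack
open Cfsg.Agent.MonsterX.MainBasic Cfsg.Agent.MonsterU
open Cfsg.Spor (Co1)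

namespace Monster

open Cfsg.Agent.MFive

theorem finite : Finite ↥InstData.M.G := MFive.Row.finite_model

theorem card_model : Nat.card ↥InstData.M.G = 808017424794512875886459904961710757005754368000000000 :=
  MonsterP.EquivOf.isM_model.2

/-- the elements of odd prime order of `Co₁` lift to elements of `C(z)` -/
theorem exists_lift {p : ℕ} (hp : p.Prime) (ho : Odd p) {s : Co1} (hs : orderOf s = p) :
    ∃ x : centralizer ({KDone.K.z} : Set ↥InstData.M.G), orderOf x = p ∧ KChart.pi MFive.Row.hc x = s := by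
  have h := KChart.chart KDone.lft MFive.Row.hc
  have := finite
  refine exists_lift_of_order (KChart.pi MFive.Row.hc) h.pi_surj hp ?_ hs
  intro c hc hd
  have h1 : (c : ↥InstData.M.G) ^ 4 = 1 := pow_four h ((h.pi_eq_one c).1 hc)
  have h2 : orderOf c ∣ 2 ^ 2 := by
    rw [← Subgroup.orderOf_coe]
    exact orderOf_dvd_of_pow_eq_one h1
  have h3 := (Nat.prime_dvd_prime_iff_eq hp Nat.prime_two).1 (hp.dvd_of_dvd_pow (hd.trans h2))
  rw [h3] at ho
  exact absurd ho (by decide)

theorem card_HN {G : Type*} [Group G] (h : Cfsg.Spor.IsoHN G) : Nat.card G = 273030912000000 := by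
  obtain ⟨e⟩ := h
  rw [Nat.card_congr e.toEquiv]
  exact Cfsg.Agent.S1701.result.2

/-- the image in `Co₁` of an element of odd prime order of `Co₀` -/
theorem orderOf_mk {p : ℕ} (hp : p.Prime) (ho : Odd p) {g : Co0} (h1 : g ^ p = 1) (h2 : g ≠ 1) :
    orderOf (QuotientGroup.mk g : Co1) = p := by
  have : Fact p.Prime := ⟨hp⟩
  refine orderOf_eq_prime ?_ ?_
  · exact congrArg (QuotientGroup.mk (s := center Co0)) h1
  · intro h
    have h3 : g ∈ center Co0 := (QuotientGroup.eq_one_iff g).1 h
    have h4 : orderOf g ∣ 2 := by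
      have h5 := orderOf_dvd_natCard (⟨g, h3⟩ : center Co0)
      rw [Cfsg.Agent.S0398.result, Subgroup.orderOf_mk] at h5
      exact h5
    rw [orderOf_eq_prime h1 h2] at h4
    rw [(Nat.prime_dvd_prime_iff_eq hp Nat.prime_two).1 h4] at ho
    exact absurd ho (by decide)

theorem order_A : orderOf (QuotientGroup.mk McLFive.gA : Co1) = 5 :=
  orderOf_mk Nat.prime_five (by decide) McLFive.a_pow McLFive.a_ne

/-- an element of order 5 with `C(x) / ⟨x⟩ ≅ HN` -/
theorem exists_five : ∃ x : ↥InstData.M.G, orderOf x = 5 ∧ Cfsg.Spor.IsoHN (XX x) := by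
  obtain ⟨x, hx, hs⟩ := exists_lift Nat.prime_five (by decide) order_A
  exact ⟨x, by rw [Subgroup.orderOf_coe, hx], CpAutBFive.Closed.hnEight x hx (by rw [hs]; exact McLFive.frA)⟩

theorem five : ¬ PCent 5 ↥InstData.M.G := by
  have : Fact (Nat.Prime 5) := ⟨Nat.prime_five⟩
  have := finite
  obtain ⟨x, hx, h⟩ := exists_five
  refine not_pcent_of_not_dvd (x := x) (k := 1) (n := 8) (by rw [hx, pow_one]) (by rw [card_model]; norm_num) ?_
  rw [card_XX, card_HN h, hx]
  norm_num

end Monster

theorem m_5 {G : Type*} [Group G] (h : Cfsg.Spor.IsoM G) : ¬ PCent 5 G := by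
  obtain ⟨e⟩ := h
  exact of_iso (by norm_num) (by rw [Monster.card_model]; norm_num) Monster.five
    ⟨e.trans Cfsg.Agent.MonsterP.Equiv.equiv.some⟩

end Cfsg.Agent.H573.Spor
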