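import Cfsg.Agent.H573.Spor.Norm_m3
import Cfsg.Agent.CpAutHe.Bound
import Cfsg.Agent.Prune
set_option linter.all false
prune_inst 0x7f00000000000000000000000000000000000000000000000000000000000000000000000000000000000000000000000000000000000000000000000000000000000000000000000000000000000000003fffffffffffffffffffffffffffbeffbdffffffff
open scoped Cfsg.Agent.FastGrp

/-!
# The Held group is not `PCent` for `p = 3, 7` (helper573)
-/

set_option autoImplicit false
set_option maxRecDepth 100000

namespace Cfsg.Agent.H573.Spor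

open Subgroup Cfsg
open Cfsg.Spor.He (Gen)
open Cfsg.Agent.SporadicB.HePerm (act wd phi)
open Cfsg.Agent.FixBN.HeStab Cfsg.Agent.KFacts.He.Lv Cfsg.Agent.CpAutHe.Cnt Cfsg.Agent.CpAutHe.Bound

namespace HeR

theorem ne_one_of_act {w : List Gen} (i : Fin 2058) (h : Nat.beq (act w i) i = false) : wd w ≠ 1 := by
  intro he
  rw [act_eq, he, map_one] at h
  have h2 : Nat.beq (i : ℕ) (i : ℕ) = true := Nat.beq_refl _
  have h3 : Nat.beq (i : ℕ) (i : ℕ) = false := h
  rw [h2] at h3
  exact absurd h3 (by decide)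

theorem pow_of_chk {w : List Gen} {n : ℕ} (h : chkB (pw w n) [] = true) : wd w ^ n = 1 := by
  have h := eq_of_chkB h
  rwa [wd_pw, wd_nil] at h

theorem order_of {w : List Gen} {p : ℕ} [Fact p.Prime] (i : Fin 2058) (h : chkB (pw w p) [] = true)
    (hi : Nat.beq (act w i) i = false) : orderOf (wd w) = p :=
  orderOf_eq_prime (pow_of_chk h) (ne_one_of_act i hi)

theorem card : Nat.card Cfsg.Spor.He = 4030387200 := card_he

theorem fix_card (w : List Gen) : (Finset.univ.filter fun i : Fin 2058 => phi (wd w) i = i).card =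
    cntB 2058 fun k => Nat.beq (act w k) k := card_fix _ _ fun i => act_eq w i

theorem c42 : (cntB 2058 fun k => Nat.beq (act [.d, .g] k) k) = 42 := by decide +kernel
theorem c0 : (cntB 2058 fun k => Nat.beq (act [.c, .b] k) k) = 0 := by decide +kernel

def A : List Gen := pw [.d, .c, .b] 4
def B : List Gen := pw [.a, .b, .c] 2
/-- `[A, B]` -/
def C : List Gen := pw A 2 ++ (pw B 2 ++ (A ++ B))

theorem seven : ¬ PCent 7 Cfsg.Spor.He := by
  have : Fact (Nat.Prime 7) := ⟨by norm_num⟩
  have hf : Finite Cfsg.Spor.He := finite_he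
  have hx : orderOf (wd X1) = 7 ^ 1 := by rw [pow_one]; exact order_of 5 (by decide +kernel) (by decide +kernel)
  refine not_pcent_of_lt (n := 3) hx (by rw [card]; norm_num) ?_
  exact lt_of_le_of_lt card1 (by norm_num)

theorem nonab (P : Sylow 3 Cfsg.Spor.He) : ¬ IsMulCommutative (P : Subgroup Cfsg.Spor.He) := by
  have : Fact (Nat.Prime 3) := ⟨by norm_num⟩
  have hf : Finite Cfsg.Spor.He := finite_he
  refine not_comm_of_class_two (a := wd A) (b := wd B) (c := wd C) (i := 1) (j := 1) (k := 1) ?_ ?_ ?_ ?_ ?_ ?_ ?_ P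
  · exact pow_of_chk (by decide +kernel)
  · exact pow_of_chk (by decide +kernel)
  · exact pow_of_chk (by decide +kernel)
  · rw [← wd_append, ← wd_append]; exact eq_of_chkB (by decide +kernel)
  · rw [← wd_append, ← wd_append]; exact eq_of_chkB (by decide +kernel)
  · rw [← wd_append, ← wd_append, ← wd_append]; exact eq_of_chkB (by decide +kernel)
  · rw [← wd_append, ← wd_append]
    intro h
    have h1 : Nat.beq (act (A ++ B) 15) (act (B ++ A) 15) = false := by decide +kernel
    rw [show (15 : ℕ) = ((15 : Fin 2058) : ℕ) from rfl, act_eq, act_eq, h, Nat.beq_refl] at h1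
    exact absurd h1 (by decide)

theorem three : ¬ PCent 3 Cfsg.Spor.He := by
  have : Fact (Nat.Prime 3) := ⟨by norm_num⟩
  have hf : Finite Cfsg.Spor.He := finite_he
  intro h
  let P : Sylow 3 Cfsg.Spor.He := default
  have hP : Nat.card (P : Subgroup Cfsg.Spor.He) = 3 ^ 3 := card_sylow_of P (by rw [card]; norm_num) (by rw [card]; norm_num)
  have h1 := h.fix_eq P hP (nonab P) phi (x := wd [.d, .g]) (y := wd [.c, .b])
    (order_of 5 (by decide +kernel) (by decide +kernel)) (order_of 5 (by decide +kernel) (by decide +kernel))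
  rw [fix_card, fix_card, c42, c0] at h1
  exact absurd h1 (by norm_num)

end HeR

theorem he_7 {G : Type*} [Group G] (h : Cfsg.Spor.IsoHe G) : ¬ PCent 7 G := by
  obtain ⟨e⟩ := h
  have : Fact (Nat.Prime 7) := ⟨by norm_num⟩
  have hf : Finite Cfsg.Spor.He := finite_he
  have : Finite G := Finite.of_equiv _ e.symm.toEquiv
  exact fun hc => HeR.seven (hc.congr e)

theorem he_3 {G : Type*} [Group G] (h : Cfsg.Spor.IsoHe G) : ¬ PCent 3 G := by
  obtain ⟨e⟩ := h
  have : Fact (Nat.Prime 3) := ⟨by norm_num⟩
  have hf : Finite Cfsg.Spor.He := finite_he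
  have : Finite G := Finite.of_equiv _ e.symm.toEquiv
  exact fun hc => HeR.three (hc.congr e)

end Cfsg.Agent.H573.Spor
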