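import Cfsg.Agent.H573.Spor.HSFive_m3
import Cfsg.Agent.CoOneType.CoAp
import Cfsg.Agent.CoOneType.CoQ
import Cfsg.Agent.CoOneType.CoQZ
import Cfsg.Agent.CoOneType.CoW
import Cfsg.Agent.LThreeMB.SpanQ
import Cfsg.Agent.Prune
set_option linter.all false
open scoped Cfsg.Agent.FastGrp

private theorem Cfsg.Agent.Co0A_H573_Spor_McLFive.spanN {n : ℕ} {R : List (List ℤ)} {vw : List (List ℤ × List ℤ)} (h : Cfsg.Agent.LThreeMB.SpanQ.spq n R vw = true) :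
    Cfsg.Agent.MFive.FixN.spanB (n + 1) R vw = true := by
  have e : ∀ (k : ℕ) (l : List ℤ), Cfsg.Agent.MFive.FixN.trn R k l = Cfsg.Agent.LThreeMB.SpanQ.tn R k l := fun k => by
    induction k with
    | zero => exact fun _ => rfl
    | succ k ih => exact fun l => congrArg (Cfsg.Agent.LThreeMB.Fix.addL l) (ih _)
  exact (congrArg (fun f => Cfsg.Agent.SporadicStructure.Co0Matrix.gens.all f) (funext fun g =>
    congrArg (fun x => Cfsg.Agent.LThreeMB.Fix.halfB (Cfsg.Agent.LThreeMB.Fix.res x vw)) (e _ g))).trans (Cfsg.Agent.LThreeMB.SpanQ.spq_spec h)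

/-!
# Elements of order 5 of `McL` (helper573)

`a`, `b` generate an extraspecial group of order 125 with centre `⟨c⟩`; `a` has fixed rank 8, `c` has fixed rank 4.

Generated by a script; checked by the kernel.
-/

set_option autoImplicit false
set_option maxRecDepth 100000

namespace Cfsg.Agent.H573.Spor.McLFive

open Subgroup Cfsg Cfsg.Agent.SporadicA Cfsg.Agent.SporadicStructure.Co0Matrix Cfsg.Agent.CoOneType.CoEval
open Cfsg.Agent.LThreeCo1.Ev Cfsg.Agent.LThreeMB.Fix Cfsg.Agent.MFive.FixN Cfsg.Agent.H573.Spor.Co0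
open Cfsg.Agent.LThreeMB (fr)
open Cfsg.Spor (Co1)

def nA : ℕ := 0xb421084a1083a508425084a1084a129421083a10849d0842d083a1083a0e7421084a1085a508425084a1084a12849d2741d29420e74a1294252941d084a529424e9420e94a0e9424e741d0849ce742529421294a0e7424e9425083a4e742529420e94a12941d2742509421083a10849d0841d083a1085a0e849ce9424e7420e93a12942529425084a52742527421293a1274252741d084a52741ce7421294a0e941d29425084a4e941ce9421274a127425274250839d2941d29421293a0e94252742509421085a10849d0841d083a1083a0e9421083a1084ad0841d083a1083a0e83a4e941d27421294a129424e941d0839d29424e9421294a12741d2941d09421083a10849d0841d085a1083a0e83a527424e9421273a129424e9425084a4e942529421273a0e941d2941d084a52941d29420e93a12741ce9425083a52942527420e74a0e7425294250849d2942527421274a12941ce742509421083a10849d0841d083a1083a16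
def nB : ℕ := 0xac6317ce318c6318c5f18c5ef8bdf38c6317be318c5ad8c5f18c6736bdef7be6f8c66f7bdef9be2f7ce319c6318c6317bdb18c6318b66d8c66f8bdef7ce6f8c5ef7be6f7be339be317c6318b62d7be318c6318c5f18b66f8be6f7cdef8c6737cdf37be2f7be317c6318c62d7bdb18c6318c5f16c5f38cdef8b6319be318c6318b5f18c5ef6cdef8c6317be318b5b18c6718b5ef8cdef8b6317be316c6316c6718c5f38bdef8c6317be2d8c6318c6716c5ef6be6f8c6317be318c62d6c5ed8c5ef8ce6f7bdef8c5ef9bdf37ce2f9ce317c6317bdf38c5f37be6f9ce2f7be317c6318c6319bdb16c5b18c5f18c5ef8be6f8c5ad9be318c62d8c6718c5ef8bdef8c5b17be2d6c6318c5f18c66f8cdef8c6319be318b6316c5f16c66f8bdef8c6319be2d8c6318c5ed8b5f38bdef7bdf38c5ef9cdef7be337be319c6318c5b17be318b6318b5f18c5f38be6f9bdef8d5ef7bdef7be2f7be317c62d9bdef8b5ef7bdef7be2f7be317c635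
def nC : ℕ := 0xac6318c5ef8c6338c62f8c5ef8be338b62d8c5ef8c62f8b6338c5f38be2f8c5b18c66f8c5af8b62f8c5ef8ce2f8c6318b5ef8c62f6c6338c5ef8cdaf7ce6f7be319bdf17bdf17be319c6718c6316c66f8c62f8c6336c5ef6be2f8c62d8c5f38c62f8c62f8b5ef6ce2f8c6316c5ef6b62f8c62f8c5f38ce2f7bdef7be317cdf19ce717be319c5f18b6318b6738b62f8c62f8c5ef8be2f8c6318b5ef8c5af8c62f8c6736be2f7bdef7ce319bdf17cdf19ce317c5f17bdf37be317ce717bdf19be317c6718c62d8c66f6c62f6c62f8c66f8be2f7cdef9be317be719bdf17ce317c5f18b6318c5ef8c62f8c5af6c66f8ce2f7be739ce317bdf17be717be317c5f18c5b18c5ef8b62f8c6338b66f8be2f8c6318c5f36c5af8c5b38c5ef8be2f8c6318c66f8c62f8c5af8b5f38bdaf8c6316c5f38c62f8b62f8c66f8bdaf8c5b18c5f38c62f6c62f6c5f38be2f9bdef7be317bdf57bdf17be317c5ed9bdef7be317bded7bdf17be317c5f5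

theorem okA : okN nA = true := by exact Cfsg.Agent.CoOneType.CoQ.okz_of (by decide +kernel)
theorem okB : okN nB = true := by exact Cfsg.Agent.CoOneType.CoQ.okz_of (by decide +kernel)
theorem okC : okN nC = true := by exact Cfsg.Agent.CoOneType.CoQ.okz_of (by decide +kernel)

def gA : Co0 := _root_.Cfsg.Agent.SporadicStructure.Co0Matrix.mk (ok_of_okN okA)
theorem repA : _root_.Cfsg.Agent.CoOneType.CoEval.Rep gA (dec nA) := rep_mk _
def gB : Co0 := _root_.Cfsg.Agent.SporadicStructure.Co0Matrix.mk (ok_of_okN okB)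
theorem repB : _root_.Cfsg.Agent.CoOneType.CoEval.Rep gB (dec nB) := rep_mk _
def gC : Co0 := _root_.Cfsg.Agent.SporadicStructure.Co0Matrix.mk (ok_of_okN okC)
theorem repC : _root_.Cfsg.Agent.CoOneType.CoEval.Rep gC (dec nC) := rep_mk _

/-- the elements -/
def e : ℕ → Co0
  | 0 => gA
  | 1 => gB
  | _ => gC

/-- their matrices -/
def Ms : ℕ → List (List ℤ)
  | 0 => dec nA
  | 1 => dec nB
  | _ => dec nC

theorem hM : ∀ i, _root_.Cfsg.Agent.CoOneType.CoEval.Rep (e i) (Ms i)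
  | 0 => repA
  | 1 => repB
  | _ + 2 => repC

theorem a_pow : gA ^ 5 = 1 := by
  have h := eq_of_eqB hM (w := [0, 0, 0, 0, 0]) (w' := []) (by (delta Cfsg.Agent.LThreeCo1.Ev.eqB; rewrite [Cfsg.Agent.CoOneType.CoW.of_eq Cfsg.Agent.LThreeCo1.Ev.foldZ_eq]; decide +kernel))
  simpa only [e, pow_succ, mul_assoc, _root_.pow_zero, _root_.one_mul, _root_.List.map_cons, _root_.List.map_nil, _root_.List.prod_cons, _root_.List.prod_nil, _root_.mul_one] using h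
theorem b_pow : gB ^ 5 = 1 := by
  have h := eq_of_eqB hM (w := [1, 1, 1, 1, 1]) (w' := []) (by (delta Cfsg.Agent.LThreeCo1.Ev.eqB; rewrite [Cfsg.Agent.CoOneType.CoW.of_eq Cfsg.Agent.LThreeCo1.Ev.foldZ_eq]; decide +kernel))
  simpa only [e, pow_succ, mul_assoc, _root_.pow_zero, _root_.one_mul, _root_.List.map_cons, _root_.List.map_nil, _root_.List.prod_cons, _root_.List.prod_nil, _root_.mul_one] using h
theorem c_pow : gC ^ 5 = 1 := by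
  have h := eq_of_eqB hM (w := [2, 2, 2, 2, 2]) (w' := []) (by (delta Cfsg.Agent.LThreeCo1.Ev.eqB; rewrite [Cfsg.Agent.CoOneType.CoW.of_eq Cfsg.Agent.LThreeCo1.Ev.foldZ_eq]; decide +kernel))
  simpa only [e, pow_succ, mul_assoc, _root_.pow_zero, _root_.one_mul, _root_.List.map_cons, _root_.List.map_nil, _root_.List.prod_cons, _root_.List.prod_nil, _root_.mul_one] using h
theorem a_ne : gA ≠ 1 := by
  have h := ne_of_neB' hM (w := [0]) (w' := []) (by (delta Cfsg.Agent.LThreeCo1.Ev.neB'; rewrite [Cfsg.Agent.CoOneType.CoW.of_eq Cfsg.Agent.LThreeCo1.Ev.foldZ_eq]; decide +kernel))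
  simpa [e, pow_succ, mul_assoc] using h
theorem c_ne : gC ≠ 1 := by
  have h := ne_of_neB' hM (w := [2]) (w' := []) (by (delta Cfsg.Agent.LThreeCo1.Ev.neB'; rewrite [Cfsg.Agent.CoOneType.CoW.of_eq Cfsg.Agent.LThreeCo1.Ev.foldZ_eq]; decide +kernel))
  simpa [e, pow_succ, mul_assoc] using h
theorem ac : gA * gC = gC * gA := by
  have h := eq_of_eqB hM (w := [0, 2]) (w' := [2, 0]) (by (delta Cfsg.Agent.LThreeCo1.Ev.eqB; rewrite [Cfsg.Agent.CoOneType.CoW.of_eq Cfsg.Agent.LThreeCo1.Ev.foldZ_eq]; decide +kernel))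
  simpa only [e, pow_succ, mul_assoc, _root_.List.map_cons, _root_.List.map_nil, _root_.List.prod_cons, _root_.List.prod_nil, _root_.mul_one] using h
theorem bc : gB * gC = gC * gB := by
  have h := eq_of_eqB hM (w := [1, 2]) (w' := [2, 1]) (by (delta Cfsg.Agent.LThreeCo1.Ev.eqB; rewrite [Cfsg.Agent.CoOneType.CoW.of_eq Cfsg.Agent.LThreeCo1.Ev.foldZ_eq]; decide +kernel))
  simpa only [e, pow_succ, mul_assoc, _root_.List.map_cons, _root_.List.map_nil, _root_.List.prod_cons, _root_.List.prod_nil, _root_.mul_one] using h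
theorem ab : gA * gB = gB * gA * gC := by
  have h := eq_of_eqB hM (w := [0, 1]) (w' := [1, 0, 2]) (by (delta Cfsg.Agent.LThreeCo1.Ev.eqB; rewrite [Cfsg.Agent.CoOneType.CoW.of_eq Cfsg.Agent.LThreeCo1.Ev.foldZ_eq]; decide +kernel))
  simpa only [e, pow_succ, mul_assoc, _root_.List.map_cons, _root_.List.map_nil, _root_.List.prod_cons, _root_.List.prod_nil, _root_.mul_one] using h

/-- fixed vectors and dual vectors -/
def vwA : List (List ℤ × List ℤ) := [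
  ([-6, -2, -2, 0, 2, 0, -6, 0, 0, 2, -2, 0, 2, 2, 2, 0, -2, -2, -2, 0, 0, 2, 2, -14],
   [0, 2, 4, 6, 8, 6, 4, 10, 6, 10, 8, 4, 6, 8, 0, 2, 10, 4, -4, 6, 4, 0, -2, 18]),
  ([-6, 2, 0, -2, -2, 2, -6, 0, 2, -2, 2, 0, 2, -2, 0, 0, 0, 2, 2, 0, -2, 0, -2, -14],
   [1, 3, 5, 7, 7, 5, 3, 9, 5, 11, 7, 5, 5, 7, 1, 3, 9, 3, -3, 7, 3, 1, -3, 15]),
  ([-4, -2, -2, 0, 2, 2, -4, 4, 2, -2, -2, 4, 0, -2, 0, 4, -2, 2, -2, 4, 0, 0, -2, -16],
   [1, 3, 3, 5, 7, 7, 3, 13, 5, 11, 9, 5, 7, 9, 1, 3, 11, 7, -5, 9, 5, 3, 1, 9]),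
  ([-5, -1, 5, 1, 1, 1, -5, -1, 1, -3, -1, -1, -3, -3, 3, -1, 5, 3, -1, -1, 1, 3, -3, -15],
   [0, 0, 2, 2, 2, 0, 2, 0, 6, 2, 4, 2, 2, 2, 0, 0, 4, 0, 0, -2, 4, -2, -2, 12]),
  ([1, 3, 5, 3, 3, 5, 1, 1, 5, 3, 3, 1, 5, 3, 7, 1, 5, 3, 3, 1, 3, 7, 3, 9],
   [1, 3, 5, 7, 7, 5, 5, 5, 7, 7, 7, 5, 5, 5, 3, 3, 7, 3, 1, 3, 5, 1, -1, 9]),
  ([-5, -3, 1, 5, -1, 3, -5, 1, 3, -1, -3, 1, -3, -1, 1, 1, 1, -3, -3, 1, 5, 1, -1, -15],
   [1, 1, 1, 1, 3, 1, 3, 1, 3, 1, 1, -1, 3, 3, -1, -1, 3, 1, 1, -1, 1, -1, 1, 3]),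
  ([-5, 3, 3, 3, 5, 7, 5, 5, 7, 3, 3, 5, 7, 3, 7, 5, 3, 5, 3, 5, 3, 7, 3, 5],
   [1, 1, 3, 5, 7, 5, 5, 7, 3, 7, 3, 3, 5, 5, -1, 3, 7, 1, -1, 5, 1, 1, -1, 9]),
  ([4, 4, 2, 4, 2, 8, -6, 4, 8, 4, 4, 4, 8, 4, 6, 4, 2, 2, 4, 4, 4, 6, 4, 6],
   [0, 0, 2, 2, 4, 4, 4, 4, 8, 2, 8, 4, 4, 4, 2, 2, 6, 4, 0, 0, 8, 0, 2, 6])]

theorem frA : fr (QuotientGroup.mk gA : Co1) = 2 ^ 8 :=
  Cfsg.Agent.MFive.FixN.card_fix (n := 5) (by decide) repA (vw := vwA) (by decide +kernel) (by (delta Cfsg.Agent.LThreeMB.Fix.fixB; rewrite [Cfsg.Agent.CoOneType.CoAp.ap_F]; decide +kernel)) (by (delta Cfsg.Agent.LThreeMB.Fix.dualB; rewrite [Cfsg.Agent.CoOneType.CoQ.dotL_F]; decide +kernel)) (by exact Cfsg.Agent.Co0A_H573_Spor_McLFive.spanN (n := 4) (by decide +kernel))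

/-- fixed vectors and dual vectors -/
def vwC : List (List ℤ × List ℤ) := [
  ([-9, -1, -1, 1, -3, 1, 1, -1, 1, -1, -1, -1, -1, -1, -1, -1, -1, -3, -1, -1, 1, -1, -1, -11],
   [0, 2, 2, 2, 2, 2, 0, 2, 0, 2, 2, 0, 0, 2, 2, 0, 0, 2, 0, 2, 0, 0, 0, 0]),
  ([-9, 1, -1, -3, -1, -1, -1, -1, -1, -1, 1, -1, 1, -1, -1, -1, -1, 1, 1, -1, -3, -1, -1, -11],
   [0, 0, 0, 2, 2, 2, 2, 2, 0, 2, 0, 2, 2, 0, 0, 2, 2, 0, 0, 2, 0, 2, 0, 0]),
  ([-9, 1, 3, 3, 5, 1, 1, 3, 1, 3, 1, 3, 1, 3, 3, 3, 3, 3, 1, 3, 3, 3, 3, -1],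
   [0, 2, 4, 6, 6, 6, 4, 4, 2, 4, 4, 4, 2, 2, 4, 4, 2, 2, 2, 4, 2, 2, 0, 0]),
  ([-8, 4, 4, 4, 4, 4, 4, 4, 4, 4, 4, 4, 4, 4, 4, 4, 4, 4, 4, 4, 4, 4, 4, 8],
   [1, 3, 3, 5, 5, 5, 3, 5, 1, 5, 3, 3, 3, 3, 3, 3, 3, 3, 1, 5, 1, 3, 1, -3])]

theorem frC : fr (QuotientGroup.mk gC : Co1) = 2 ^ 4 :=
  Cfsg.Agent.MFive.FixN.card_fix (n := 5) (by decide) repC (vw := vwC) (by decide +kernel) (by (delta Cfsg.Agent.LThreeMB.Fix.fixB; rewrite [Cfsg.Agent.CoOneType.CoAp.ap_F]; decide +kernel)) (by (delta Cfsg.Agent.LThreeMB.Fix.dualB; rewrite [Cfsg.Agent.CoOneType.CoQ.dotL_F]; decide +kernel)) (by exact Cfsg.Agent.Co0A_H573_Spor_McLFive.spanN (n := 4) (by decide +kernel))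

theorem fr_ne : fr (QuotientGroup.mk gA : Co1) ≠ fr (QuotientGroup.mk gC : Co1) := by
  rw [frA, frC]; norm_num

theorem memA : gA.1 ∈ Spor.McL := mem_McL repA (by (rewrite [Cfsg.Agent.CoOneType.CoAp.ap_F]; decide +kernel)) (by (rewrite [Cfsg.Agent.CoOneType.CoAp.ap_F]; decide +kernel))
theorem memB : gB.1 ∈ Spor.McL := mem_McL repB (by (rewrite [Cfsg.Agent.CoOneType.CoAp.ap_F]; decide +kernel)) (by (rewrite [Cfsg.Agent.CoOneType.CoAp.ap_F]; decide +kernel))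
theorem memC : gC.1 ∈ Spor.McL := mem_McL repC (by (rewrite [Cfsg.Agent.CoOneType.CoAp.ap_F]; decide +kernel)) (by (rewrite [Cfsg.Agent.CoOneType.CoAp.ap_F]; decide +kernel))

theorem le_Co2 {g : Equiv.Perm leechLattice} (h : g ∈ Spor.McL) : g ∈ Spor.Co2 := ⟨h.1.1, h.2⟩

/-- a subgroup of `Co₀` containing `McL` -/
theorem of_le (X : Subgroup (Equiv.Perm leechLattice)) (hX : X ≤ Co0) (hM : ∀ g ∈ Spor.McL, g ∈ X)
    (h3 : 5 ^ 3 ∣ Nat.card X) (h4 : ¬ 5 ^ 4 ∣ Nat.card X) : ¬ PCent 5 X :=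
  have : Fact (Nat.Prime 5) := ⟨by norm_num⟩
  Co0.main X hX h3 h4 (hM _ memA) (hM _ memB) (hM _ memC) a_pow a_ne b_pow c_pow c_ne ac bc ab fr_ne

end Cfsg.Agent.H573.Spor.McLFive

private theorem dce_af6819e71179 : _root_.True := by
  try have : _root_.True := by simp only [_root_.Cfsg.Agent.H573.Spor.McLFive.e.eq_2]
  try have : _root_.True := by simp only [_root_.Cfsg.Agent.H573.Spor.McLFive.e.eq_1]
  try have : _root_.True := by simp only [_root_.Cfsg.Agent.H573.Spor.McLFive.e.eq_3]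
  exact _root_.True.intro
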